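import Mathlib
import Cfsg.Agent.Solvable.Basics

/-!
Fixed points of an element of prime order whose conjugates generate a solvable group: in every
transitive action, and on a graded vector space whose grading it permutes.
-/

set_option autoImplicit false
set_option linter.style.haveILetI false
set_option linter.unusedSectionVars false

namespace CfsgLib.Flavell

open MulAction

/-- The index of the fixed subgroup of an operator of prime order on an elementary abelian
group. -/
theorem index_fixed {A : Type*} [Group A] [Finite A] {q p : ℕ} (hq : q.Prime) (hp : p.Prime)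
    (hexp : ∀ a : A, a ^ q = 1) (σ : MulAut A) (hσp : σ ^ p = 1) (hσ : σ ≠ 1) (C : Subgroup A)
    (hC : ∀ a : A, a ∈ C ↔ σ a = a) :
    ∃ e, 0 < e ∧ C.index = q ^ e ∧ (q ≠ p → C.index ≡ 1 [MOD p]) := by
  classical
  haveI := Fact.mk hq
  haveI := Fact.mk hp
  have hA : IsPGroup q A := fun a => ⟨1, by rw [pow_one]; exact hexp a⟩
  obtain ⟨e, he⟩ := hA.index C
  refine ⟨e, Nat.pos_of_ne_zero fun h0 => hσ ?_, he, fun hne => ?_⟩
  · rw [h0, pow_zero, Subgroup.index_eq_one] at he
    exact MulEquiv.ext fun a => by rw [(hC a).1 (he ▸ Subgroup.mem_top a)]; rfl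
  · have hP : IsPGroup p (Subgroup.zpowers σ) := IsPGroup.of_card (n := 1) (by
      rw [Nat.card_zpowers, orderOf_eq_prime hσp hσ, pow_one])
    have h1 := hP.card_modEq_card_fixedPoints A
    have h2 : fixedPoints (Subgroup.zpowers σ) A = (C : Set A) := by
      ext a
      rw [mem_fixedPoints, SetLike.mem_coe, hC]
      refine ⟨fun h => h ⟨σ, Subgroup.mem_zpowers σ⟩, fun h => ?_⟩
      rintro ⟨τ, hτ⟩
      have : Subgroup.zpowers σ ≤ MulAction.stabilizer (MulAut A) a := by
        rw [Subgroup.zpowers_le, MulAction.mem_stabilizer_iff]; exact h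
      exact MulAction.mem_stabilizer_iff.1 (this hτ)
    rw [h2, ← C.index_mul_card] at h1
    obtain ⟨k, hk⟩ := IsPGroup.iff_card.1 (hA.to_subgroup C)
    have hc : p.Coprime (Nat.card C) := by
      rw [hk]; exact Nat.Coprime.pow_right k ((Nat.coprime_primes hp hq).2 hne.symm)
    refine Nat.ModEq.cancel_right_of_coprime hc (show C.index * Nat.card C ≡ 1 * Nat.card C [MOD p] from ?_)
    rw [one_mul]
    exact h1

/-- The fixed subgroup has index at least `p`. -/
theorem le_index_fixed {A : Type*} [Group A] [Finite A] {q p : ℕ} (hq : q.Prime) (hp : p.Prime)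
    (hexp : ∀ a : A, a ^ q = 1) (σ : MulAut A) (hσp : σ ^ p = 1) (hσ : σ ≠ 1) (C : Subgroup A)
    (hC : ∀ a : A, a ∈ C ↔ σ a = a) : p ≤ C.index := by
  obtain ⟨e, he, hi, hmod⟩ := index_fixed hq hp hexp σ hσp hσ C hC
  rcases eq_or_ne q p with h | h
  · subst h
    rw [hi]
    exact le_self_pow₀ hq.one_le he.ne'
  · have h1 : 1 < C.index := hi ▸ Nat.one_lt_pow he.ne' hq.one_lt
    have h2 := (Nat.modEq_iff_dvd' h1.le).1 (hmod h).symm
    have := Nat.le_of_dvd (by omega) h2
    omega

variable {G : Type*} [Group G] [Finite G]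

/-- The action on the cosets of a maximal subgroup with trivial core. -/
theorem fixed_coatom [Group.IsSolvable G] {p : ℕ} (hp : p.Prime) {M : Subgroup G} (hM : IsCoatom M)
    (hcore : M.normalCore = ⊥) (g : G) (hgp : g ^ p = 1)
    (hgen : Subgroup.normalClosure {g} = ⊤) :
    p * Nat.card (fixedBy (G ⧸ M) g) ≤ M.index := by
  classical
  rcases isEmpty_or_nonempty (fixedBy (G ⧸ M) g) with he | ⟨⟨c, hc⟩⟩
  · simp [Nat.card_of_isEmpty]
  obtain ⟨x, rfl⟩ := QuotientGroup.mk_surjective c
  set g₀ := x⁻¹ * g * x with hg₀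
  have hg₀M : g₀ ∈ M := by
    rw [mem_fixedBy, MulAction.Quotient.smul_mk, QuotientGroup.eq] at hc
    have := M.inv_mem hc
    simpa [hg₀, mul_assoc] using this
  have hcount : Nat.card (fixedBy (G ⧸ M) g) = Nat.card (fixedBy (G ⧸ M) g₀) := by
    refine Nat.card_congr (Equiv.subtypeEquiv (MulAction.toPerm x⁻¹) fun c => ?_)
    simp only [mem_fixedBy, toPerm_apply, hg₀, mul_smul, smul_inv_smul, smul_left_cancel_iff]
  rw [hcount]
  have hgen₀ : Subgroup.normalClosure {g₀} = ⊤ := by
    rw [eq_top_iff, ← hgen]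
    refine Subgroup.normalClosure_le_normal fun y hy => ?_
    rw [Set.mem_singleton_iff] at hy
    have := (Subgroup.normalClosure_normal (s := {g₀})).conj_mem g₀
      (Subgroup.subset_normalClosure rfl) x
    rw [SetLike.mem_coe, hy]
    simpa [hg₀, mul_assoc] using this
  have htop : (⊤ : Subgroup G) ≠ ⊥ := fun h => hM.1 (le_antisymm le_top (h ▸ bot_le))
  obtain ⟨A, hAn, hA1, -, hAc, hmin, q, hq, hexp, -⟩ :=
    CfsgLib.Solvable.exists_normal_elementary_le htop inferInstance
  haveI := hAn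
  haveI := hAc
  have hAM : ¬ A ≤ M := fun h => hA1 (le_bot_iff.1 (hcore ▸ Subgroup.normal_le_normalCore.2 h))
  have hsup : A ⊔ M = ⊤ :=
    hM.2 _ (lt_of_le_of_ne le_sup_right fun h => hAM (le_sup_left.trans h.ge))
  have hcomm : ∀ a ∈ A, ∀ b ∈ A, a * b = b * a := fun a ha b hb => setLike_mul_comm ha hb
  have hinf : A ⊓ M = ⊥ := by
    haveI : (A ⊓ M).Normal := by
      rw [← Subgroup.normalizer_eq_top_iff, eq_top_iff, ← hsup]
      refine sup_le (fun a ha => ?_) (fun m hm => ?_)
      · rw [Subgroup.mem_normalizer_iff]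
        intro y
        constructor
        · intro hy; rwa [hcomm a ha y hy.1, mul_inv_cancel_right]
        · intro hy
          have h1 : a * y * a⁻¹ ∈ A := hy.1
          have h2 : y ∈ A := by simpa [mul_assoc] using A.mul_mem (A.mul_mem (A.inv_mem ha) h1) ha
          rwa [hcomm a ha y h2, mul_inv_cancel_right] at hy
      · rw [Subgroup.mem_normalizer_iff]
        intro y
        constructor
        · exact fun hy => ⟨hAn.conj_mem y hy.1 m, M.mul_mem (M.mul_mem hm hy.2) (M.inv_mem hm)⟩
        · intro hy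
          have h1 := hAn.conj_mem _ hy.1 m⁻¹
          have h2 := M.mul_mem (M.mul_mem (M.inv_mem hm) hy.2) hm
          exact ⟨by simpa [mul_assoc] using h1, by simpa [mul_assoc] using h2⟩
    exact le_bot_iff.1 (hcore ▸ Subgroup.normal_le_normalCore.2 inf_le_right)
  -- cosets correspond to elements of `A`
  let φ : A → G ⧸ M := fun a => ((a : G) : G ⧸ M)
  have hφ : Function.Bijective φ := by
    constructor
    · intro a b h
      have h1 := QuotientGroup.eq.1 h
      have : (a : G)⁻¹ * b ∈ A ⊓ M := ⟨A.mul_mem (A.inv_mem a.2) b.2, h1⟩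
      rw [hinf, Subgroup.mem_bot, inv_mul_eq_one] at this
      exact Subtype.ext this
    · intro c
      obtain ⟨y, rfl⟩ := QuotientGroup.mk_surjective c
      obtain ⟨a, ha, m, hm, rfl⟩ := Subgroup.mem_sup_of_normal_left.1 (hsup ▸ Subgroup.mem_top y)
      exact ⟨⟨a, ha⟩, (QuotientGroup.mk_mul_of_mem a hm).symm⟩
  set σ : MulAut A := MulAut.conjNormal g₀ with hσ
  let C : Subgroup A :=
    { carrier := {a | σ a = a}
      mul_mem' := fun {a b} ha hb => by
        rw [Set.mem_setOf_eq] at ha hb ⊢; rw [map_mul, ha, hb]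
      one_mem' := map_one σ
      inv_mem' := fun {a} ha => by
        rw [Set.mem_setOf_eq] at ha ⊢; rw [map_inv, ha] }
  have hCfix : ∀ a : A, a ∈ C ↔ φ a ∈ fixedBy (G ⧸ M) g₀ := by
    intro a
    rw [mem_fixedBy]
    show σ a = a ↔ ((g₀ * (a : G) : G) : G ⧸ M) = ((a : G) : G ⧸ M)
    constructor
    · intro h
      have h1 : g₀ * (a : G) * g₀⁻¹ = a := congrArg Subtype.val h
      rw [mul_inv_eq_iff_eq_mul] at h1
      rw [h1, QuotientGroup.mk_mul_of_mem _ hg₀M]
    · intro h
      refine hφ.1 (?_ : φ (σ a) = φ a)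
      show ((g₀ * (a : G) * g₀⁻¹ : G) : G ⧸ M) = _
      rw [QuotientGroup.mk_mul_of_mem _ (M.inv_mem hg₀M), h]
  have hσp : σ ^ p = 1 := by
    rw [hσ, ← map_pow, hg₀, show (x⁻¹ * g * x) ^ p = x⁻¹ * g ^ p * x by
      simpa using (conj_pow (a := x⁻¹) (b := g) (i := p)), hgp, mul_one, inv_mul_cancel, map_one]
  have hσ1 : σ ≠ 1 := by
    intro h
    have hcent : A ≤ Subgroup.center G := by
      intro a ha
      have hK : Subgroup.normalClosure {g₀} ≤ Subgroup.centralizer (A : Set G) := by
        refine Subgroup.normalClosure_le_normal fun y hy => ?_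
        rw [Set.mem_singleton_iff] at hy
        rw [hy, SetLike.mem_coe, Subgroup.mem_centralizer_iff]
        intro b hb
        have h1 : g₀ * b * g₀⁻¹ = b :=
          congrArg Subtype.val (DFunLike.congr_fun h (⟨b, hb⟩ : A))
        exact (mul_inv_eq_iff_eq_mul.1 h1).symm
      rw [Subgroup.mem_center_iff]
      intro y
      exact ((Subgroup.mem_centralizer_iff.1 (hK (hgen₀ ▸ Subgroup.mem_top y))) a ha).symm
    have hMn : M.Normal := by
      rw [← Subgroup.normalizer_eq_top_iff, eq_top_iff, ← hsup]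
      refine sup_le (fun a ha => ?_) Subgroup.le_normalizer
      rw [Subgroup.mem_normalizer_iff]
      intro y
      rw [← Subgroup.mem_center_iff.1 (hcent ha) y, mul_inv_cancel_right]
    exact hM.1 (top_le_iff.1 (hgen₀ ▸ Subgroup.normalClosure_le_normal (N := M)
      (Set.singleton_subset_iff.2 hg₀M)))
  have hle := le_index_fixed hq hp (fun a : A => Subtype.ext (by simpa using hexp a a.2)) σ hσp hσ1 C
    fun a => Iff.rfl
  have hf : Nat.card (fixedBy (G ⧸ M) g₀) = Nat.card C :=
    (Nat.card_congr ((Equiv.ofBijective φ hφ).subtypeEquiv fun a => (hCfix a))).symm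
  have hA' : M.index = Nat.card A := (Nat.card_congr (Equiv.ofBijective φ hφ)).symm
  rw [hf, hA', ← C.index_mul_card]
  exact Nat.mul_le_mul_right _ hle

/-- In a transitive action on more than one point at most a `p`-th of the points are fixed. -/
theorem fixed_transitive [Group.IsSolvable G] {p : ℕ} (hp : p.Prime) (g : G) (hgp : g ^ p = 1)
    (hgen : Subgroup.normalClosure {g} = ⊤) {Ω : Type*} [MulAction G Ω] [Finite Ω]
    [IsPretransitive G Ω] [Nontrivial Ω] :
    p * Nat.card (fixedBy Ω g) ≤ Nat.card Ω := by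
  classical
  obtain ⟨α, β, hαβ⟩ := exists_pair_ne Ω
  set M₀ := stabilizer G α with hM₀
  have hM₀top : M₀ ≠ ⊤ := fun h => by
    obtain ⟨y, hy⟩ := MulAction.exists_smul_eq G α β
    have hy' : y ∈ stabilizer G α := hM₀ ▸ (h ▸ Subgroup.mem_top y)
    exact hαβ (by rw [← hy, mem_stabilizer_iff.1 hy'])
  obtain ⟨M, hM, hle⟩ := (eq_top_or_exists_le_coatom M₀).resolve_left hM₀top
  -- compare with the cosets of `M`
  let e : Ω ≃ G ⧸ M₀ := (Equiv.Set.univ Ω).symm.trans
    ((Equiv.setCongr (orbit_eq_univ G α).symm).trans (orbitEquivQuotientStabilizer G α))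
  have hesymm : ∀ y : G, e.symm (y : G ⧸ M₀) = y • α := fun y => by
    simp only [e, Equiv.symm_trans_apply, Equiv.setCongr_symm_apply, Equiv.symm_symm]
    exact orbitEquivQuotientStabilizer_symm_apply G α y
  let π := Subgroup.quotientEquivProdOfLE hle
  have hfix : ∀ ω, ω ∈ fixedBy Ω g → (π (e ω)).1 ∈ fixedBy (G ⧸ M) g := by
    intro ω hω
    obtain ⟨y, hy⟩ := QuotientGroup.mk_surjective (e ω)
    have hy' : y • α = ω := by rw [← hesymm, hy, Equiv.symm_apply_apply]
    rw [← hy, mem_fixedBy] at *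
    have h1 : (π ((y : G) : G ⧸ M₀)).1 = ((y : G) : G ⧸ M) := rfl
    rw [h1, MulAction.Quotient.smul_mk, QuotientGroup.eq]
    apply hle
    rw [hM₀, mem_stabilizer_iff, smul_eq_mul, mul_inv_rev, mul_smul, mul_smul, hy']
    conv_lhs => rw [show g⁻¹ • ω = ω by rw [inv_smul_eq_iff, hω]]
    rw [← hy', inv_smul_smul]
  have h1 : Nat.card (fixedBy Ω g) ≤
      Nat.card (fixedBy (G ⧸ M) g) * Nat.card (↥M ⧸ M₀.subgroupOf M) := by
    rw [← Nat.card_prod]
    refine Nat.card_le_card_of_injective
      (fun ω => (⟨(π (e ω.1)).1, hfix ω.1 ω.2⟩, (π (e ω.1)).2)) fun a b h => ?_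
    simp only [Prod.mk.injEq, Subtype.mk.injEq] at h
    exact Subtype.ext (e.injective (π.injective (Prod.ext h.1 h.2)))
  have h2 : Nat.card Ω = M.index * Nat.card (↥M ⧸ M₀.subgroupOf M) := by
    rw [Nat.card_congr (e.trans π), Nat.card_prod]; rfl
  -- pass to the quotient by the core of `M`
  set K := M.normalCore with hK
  set mk := QuotientGroup.mk' K with hmk
  have hsurj : Function.Surjective mk := QuotientGroup.mk'_surjective K
  have hKM : K ≤ M := Subgroup.normalCore_le M
  have hcomap : (M.map mk).comap mk = M := by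
    rw [Subgroup.comap_map_eq, hmk, QuotientGroup.ker_mk', sup_of_le_left hKM]
  haveI : Group.IsSolvable (G ⧸ K) := Group.isSolvable_of_surjective hsurj
  have hMc : IsCoatom (M.map mk) := by
    refine ⟨fun h => hM.1 (by rw [← hcomap, h, Subgroup.comap_top]), fun L hL => ?_⟩
    have := hM.2 (L.comap mk)
      (hcomap.symm.trans_lt ((Subgroup.comap_lt_comap_of_surjective hsurj).2 hL))
    rw [← Subgroup.map_comap_eq_self_of_surjective hsurj L, this,
      Subgroup.map_top_of_surjective mk hsurj]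
  have hcore : (M.map mk).normalCore = ⊥ := by
    have h := Subgroup.normal_le_normalCore.2
      ((Subgroup.comap_mono (f := mk) (Subgroup.normalCore_le (M.map mk))).trans hcomap.le)
    rw [← Subgroup.map_comap_eq_self_of_surjective hsurj ((M.map mk).normalCore), eq_bot_iff]
    refine (Subgroup.map_mono h).trans ?_
    rw [← hK, hmk, QuotientGroup.map_mk'_self]
  have h3 := fixed_coatom hp hMc hcore (mk g) (by rw [← map_pow, hgp, map_one]) (by
    rw [← Set.image_singleton, ← Subgroup.map_normalClosure _ mk hsurj, hgen,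
      Subgroup.map_top_of_surjective mk hsurj])
  have h4 : Nat.card (fixedBy (G ⧸ M) g) ≤ Nat.card (fixedBy ((G ⧸ K) ⧸ M.map mk) (mk g)) := by
    let ψ : G ⧸ M → (G ⧸ K) ⧸ M.map mk :=
      Quotient.map' mk fun a b h => by
        rw [QuotientGroup.leftRel_apply] at h ⊢
        rw [← map_inv, ← map_mul]
        exact Subgroup.mem_map_of_mem mk h
    have hψ : Function.Injective ψ := by
      intro a b
      obtain ⟨a, rfl⟩ := QuotientGroup.mk_surjective a
      obtain ⟨b, rfl⟩ := QuotientGroup.mk_surjective b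
      intro h
      have h' := QuotientGroup.eq.1 (h : ((mk a : G ⧸ K) : (G ⧸ K) ⧸ M.map mk) = (mk b : G ⧸ K))
      rw [← map_inv, ← map_mul, ← Subgroup.mem_comap, hcomap] at h'
      exact QuotientGroup.eq.2 h'
    refine Nat.card_le_card_of_injective (fun c => ⟨ψ c.1, ?_⟩)
      fun a b h => Subtype.ext (hψ (congrArg Subtype.val h))
    obtain ⟨c, hc⟩ := c
    obtain ⟨y, rfl⟩ := QuotientGroup.mk_surjective c
    rw [mem_fixedBy] at hc ⊢
    have := congrArg ψ hc
    show ((mk g * mk y : G ⧸ K) : (G ⧸ K) ⧸ M.map mk) = ((mk y : G ⧸ K) : (G ⧸ K) ⧸ M.map mk)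
    rw [← map_mul]
    exact this
  have h5 : (M.map mk).index = M.index :=
    (Subgroup.index_comap_of_surjective _ hsurj).symm.trans (congrArg Subgroup.index hcomap)
  rw [h2]
  calc p * Nat.card (fixedBy Ω g)
      ≤ p * (Nat.card (fixedBy (G ⧸ M) g) * Nat.card (↥M ⧸ M₀.subgroupOf M)) :=
        Nat.mul_le_mul_left _ h1
    _ = p * Nat.card (fixedBy (G ⧸ M) g) * Nat.card (↥M ⧸ M₀.subgroupOf M) := (mul_assoc _ _ _).symm
    _ ≤ M.index * Nat.card (↥M ⧸ M₀.subgroupOf M) :=
        Nat.mul_le_mul_right _ (h5 ▸ (Nat.mul_le_mul_left p h4).trans h3)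

/-- A transversal for the cycles of a permutation of prime order. -/
theorem exists_transversal {Ω : Type*} [Finite Ω] {p : ℕ} (hp : p.Prime) (σ : Equiv.Perm Ω)
    (hσ : σ ^ p = 1) :
    ∃ T : Finset Ω, p * T.card ≤ Nat.card Ω + (p - 1) * Nat.card (fixedBy Ω σ) ∧
      ∀ ω, ∃ t ∈ T, ∃ n : ℕ, (σ ^ n) t = ω := by
  classical
  haveI := Fintype.ofFinite Ω
  haveI := Fact.mk hp
  by_cases h1 : σ = 1
  · refine ⟨Finset.univ, le_of_eq ?_, fun ω => ⟨ω, Finset.mem_univ _, 0, rfl⟩⟩
    have : Nat.card (fixedBy Ω σ) = Nat.card Ω := by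
      rw [h1]; exact Nat.card_congr (Equiv.subtypeUnivEquiv fun ω => one_smul _ ω)
    rw [this, Finset.card_univ, ← Nat.card_eq_fintype_card]
    obtain ⟨k, rfl⟩ := Nat.exists_eq_add_of_le hp.one_le
    rw [Nat.add_sub_cancel_left, add_mul, one_mul]
  set S := Subgroup.zpowers σ with hS
  haveI := Fintype.ofFinite S
  haveI := Fintype.ofFinite (Quotient (orbitRel S Ω))
  have hcard : Fintype.card S = p := by
    rw [← Nat.card_eq_fintype_card, hS, Nat.card_zpowers, orderOf_eq_prime hσ h1]
  refine ⟨Finset.univ.image (fun o : Quotient (orbitRel S Ω) => o.out), ?_, fun ω => ?_⟩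
  · refine le_trans (Nat.mul_le_mul_left _ (Finset.card_image_le.trans (le_of_eq Finset.card_univ))) ?_
    rw [mul_comm]
    have h := sum_card_fixedBy_eq_card_orbits_mul_card_group S Ω
    rw [hcard] at h
    rw [← h, ← Finset.add_sum_erase _ _ (Finset.mem_univ (1 : S))]
    have hrest : ∀ s ∈ Finset.univ.erase (1 : S),
        Fintype.card (fixedBy Ω s) = Nat.card (fixedBy Ω σ) := by
      intro s hs
      rw [← Nat.card_eq_fintype_card]
      refine Nat.card_congr (Equiv.setCongr (Set.ext fun ω => ?_))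
      obtain ⟨n, hn⟩ := Subgroup.mem_zpowers_iff.1 s.2
      have hne : (s : Equiv.Perm Ω) ≠ 1 := fun e => Finset.ne_of_mem_erase hs (Subtype.ext e)
      have hgen : Subgroup.zpowers (s : Equiv.Perm Ω) = S := by
        refine Subgroup.eq_of_le_of_card_ge (Subgroup.zpowers_le.2 s.2) ?_
        have hsp : orderOf (s : Equiv.Perm Ω) = p := orderOf_eq_prime (by
          rw [← hn, ← zpow_natCast, ← zpow_mul, mul_comm, zpow_mul, zpow_natCast, hσ, one_zpow]) hne
        rw [Nat.card_eq_fintype_card, hcard, Nat.card_zpowers, hsp]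
      constructor
      · intro h
        have : S ≤ stabilizer (Equiv.Perm Ω) ω := by
          rw [← hgen, Subgroup.zpowers_le, mem_stabilizer_iff]; exact h
        exact mem_stabilizer_iff.1 (this (Subgroup.mem_zpowers σ))
      · intro h
        have : S ≤ stabilizer (Equiv.Perm Ω) ω := by
          rw [hS, Subgroup.zpowers_le, mem_stabilizer_iff]; exact h
        exact mem_stabilizer_iff.1 (this s.2)
    rw [Finset.sum_congr rfl hrest, Finset.sum_const, Finset.card_erase_of_mem (Finset.mem_univ _),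
      Finset.card_univ, hcard, smul_eq_mul, ← Nat.card_eq_fintype_card]
    refine Nat.add_le_add_right (le_of_eq ?_) _
    exact Nat.card_congr (Equiv.subtypeUnivEquiv fun ω => one_smul _ ω)
  · refine ⟨_, Finset.mem_image_of_mem _ (Finset.mem_univ (Quotient.mk (orbitRel S Ω) ω)), ?_⟩
    have h : orbitRel S Ω (Quotient.mk (orbitRel S Ω) ω).out ω := Quotient.mk_out (s := orbitRel S Ω) ω
    obtain ⟨s, hs⟩ := (orbitRel S Ω).symm' h
    have hs' : ((s : Equiv.Perm Ω)) (Quotient.mk (orbitRel S Ω) ω).out = ω := hs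
    obtain ⟨n, hn⟩ := (mem_powers_iff_mem_zpowers (x := σ)).2 s.2
    exact ⟨n, by rw [show σ ^ n = (s : Equiv.Perm Ω) from hn]; exact hs'⟩

variable {K V : Type*} [Field K] [AddCommGroup V] [Module K V] [FiniteDimensional K V]

/-- A family of subspaces forming a direct decomposition. -/
structure Grading {Ω : Type*} [Fintype Ω] (W : Ω → Submodule K V) : Prop where
  indep : ∀ v : Ω → V, (∀ i, v i ∈ W i) → ∑ i, v i = 0 → ∀ i, v i = 0
  span : ∀ x, ∃ v : Ω → V, (∀ i, v i ∈ W i) ∧ ∑ i, v i = x

theorem Grading.finrank_eq {Ω : Type*} [Fintype Ω] {W : Ω → Submodule K V} (h : Grading W) {D : ℕ}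
    (hD : ∀ i, Module.finrank K (W i) = D) : Module.finrank K V = Fintype.card Ω * D := by
  classical
  let f : ((i : Ω) → W i) →ₗ[K] V := ∑ i, (W i).subtype.comp (LinearMap.proj i)
  have hfa : ∀ u : (i : Ω) → W i, f u = ∑ i, (u i : V) := fun u => by simp [f]
  have hf : Function.Bijective f := by
    refine ⟨(injective_iff_map_eq_zero f).2 fun u hu => ?_, fun x => ?_⟩
    · exact funext fun i => Subtype.ext (h.indep (fun i => u i) (fun i => (u i).2) (by rw [← hfa, hu]) i)
    · obtain ⟨v, hv, rfl⟩ := h.span x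
      exact ⟨fun i => ⟨v i, hv i⟩, by rw [hfa]⟩
  rw [← (LinearEquiv.ofBijective f hf).finrank_eq, Module.finrank_pi_fintype,
    Finset.sum_congr rfl fun i _ => hD i, Finset.sum_const, Finset.card_univ, smul_eq_mul]

/-- Fixed vectors of an operator permuting the summands of a decomposition. -/
theorem Grading.fixed_le {Ω : Type*} [Fintype Ω] {W : Ω → Submodule K V} (h : Grading W) {D : ℕ}
    (hD : ∀ i, Module.finrank K (W i) = D) {p : ℕ} (hp : p.Prime) (σ : Equiv.Perm Ω)
    (hσ : σ ^ p = 1) (T : Module.End K V) (hT : ∀ i, ∀ v ∈ W i, T v ∈ W (σ i)) :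
    p * Module.finrank K (LinearMap.ker (T - 1)) ≤
      D * (Nat.card Ω + (p - 1) * Nat.card (fixedBy Ω σ)) := by
  classical
  obtain ⟨R, hR, hcover⟩ := exists_transversal hp σ hσ
  let f : ((i : Ω) → W i) →ₗ[K] V := ∑ i, (W i).subtype.comp (LinearMap.proj i)
  have hfa : ∀ u : (i : Ω) → W i, f u = ∑ i, (u i : V) := fun u => by simp [f]
  have hf : Function.Bijective f := by
    refine ⟨(injective_iff_map_eq_zero f).2 fun u hu => ?_, fun x => ?_⟩
    · exact funext fun i => Subtype.ext (h.indep (fun i => u i) (fun i => (u i).2) (by rw [← hfa, hu]) i)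
    · obtain ⟨v, hv, rfl⟩ := h.span x
      exact ⟨fun i => ⟨v i, hv i⟩, by rw [hfa]⟩
  let e := LinearEquiv.ofBijective f hf
  have hcoord : ∀ x ∈ LinearMap.ker (T - 1), ∀ i, (e.symm x (σ i) : V) = T (e.symm x i) := by
    intro x hx
    have hTx : T x = x := by rw [LinearMap.mem_ker] at hx; simpa [sub_eq_zero] using hx
    set u := e.symm x
    have hux : ∑ i, (u i : V) = x := by rw [← hfa]; exact e.apply_symm_apply x
    have h0 := h.indep (fun i => (u i : V) - T (u (σ.symm i)))
      (fun i => Submodule.sub_mem _ (u i).2 (by simpa using hT (σ.symm i) _ (u (σ.symm i)).2)) (by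
        rw [Finset.sum_sub_distrib, Equiv.sum_comp σ.symm (fun i => T (u i : V)), ← map_sum, hux,
          hTx, sub_self])
    intro i
    have h1 := h0 (σ i)
    rw [sub_eq_zero, Equiv.symm_apply_apply] at h1
    exact h1
  let Φ : LinearMap.ker (T - 1) →ₗ[K] ((t : R) → W (t : Ω)) :=
    LinearMap.pi fun t => (LinearMap.proj (t : Ω)).comp (e.symm.toLinearMap.comp (Submodule.subtype _))
  have hΦ : Function.Injective Φ := by
    rw [injective_iff_map_eq_zero]
    rintro ⟨x, hx⟩ hx0
    have hall : ∀ i, (e.symm x i : V) = 0 := by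
      intro i
      obtain ⟨t, ht, n, rfl⟩ := hcover i
      induction n with
      | zero => exact congrArg Subtype.val (congrFun hx0 ⟨t, ht⟩)
      | succ n ih => rw [pow_succ', Equiv.Perm.mul_apply, hcoord x hx, ih, map_zero]
    have : e.symm x = 0 := funext fun i => Subtype.ext (hall i)
    exact Subtype.ext (e.symm.injective (this.trans (map_zero e.symm).symm))
  have h1 := LinearMap.finrank_le_finrank_of_injective hΦ
  rw [Module.finrank_pi_fintype, Finset.sum_congr rfl fun (t : R) _ => hD t, Finset.sum_const,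
    Finset.card_univ, Fintype.card_coe, smul_eq_mul] at h1
  calc p * Module.finrank K (LinearMap.ker (T - 1)) ≤ p * (R.card * D) := Nat.mul_le_mul_left _ h1
    _ = D * (p * R.card) := by ring
    _ ≤ _ := Nat.mul_le_mul_left _ hR

end CfsgLib.Flavell
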