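import Mathlib

/-!
Two transvections with different centres on a plane over a field of prime order at least five do
not lie in a solvable group.
-/

set_option autoImplicit false
set_option linter.style.haveILetI false

namespace CfsgLib.Flavell

open Matrix

variable {F : Type*} [Field F]

/-- Upper unitriangular matrix. -/
def upperMat (t : F) : GL (Fin 2) F :=
  ⟨!![1, t; 0, 1], !![1, -t; 0, 1], by ext i j; fin_cases i <;> fin_cases j <;> simp [mul_apply, Fin.sum_univ_two],
    by ext i j; fin_cases i <;> fin_cases j <;> simp [mul_apply, Fin.sum_univ_two]⟩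

/-- Lower unitriangular matrix. -/
def lowerMat (t : F) : GL (Fin 2) F :=
  ⟨!![1, 0; t, 1], !![1, 0; -t, 1], by ext i j; fin_cases i <;> fin_cases j <;> simp [mul_apply, Fin.sum_univ_two],
    by ext i j; fin_cases i <;> fin_cases j <;> simp [mul_apply, Fin.sum_univ_two]⟩

theorem upperMat_add (s t : F) : upperMat s * upperMat t = upperMat (s + t) := by
  refine Units.ext ?_
  ext i j
  fin_cases i <;> fin_cases j <;> simp [upperMat, mul_apply, Fin.sum_univ_two] <;> ring

theorem lowerMat_add (s t : F) : lowerMat s * lowerMat t = lowerMat (s + t) := by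
  refine Units.ext ?_
  ext i j
  fin_cases i <;> fin_cases j <;> simp [lowerMat, mul_apply, Fin.sum_univ_two]

theorem upperMat_zero : upperMat (0 : F) = 1 := by
  refine Units.ext ?_
  ext i j
  fin_cases i <;> fin_cases j <;> simp [upperMat]

theorem lowerMat_zero : lowerMat (0 : F) = 1 := by
  refine Units.ext ?_
  ext i j
  fin_cases i <;> fin_cases j <;> simp [lowerMat]

/-- A subgroup containing both root subgroups over a field with `2 ≠ 0` and `3 ≠ 0` has its
commutator subgroup containing them too. -/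
theorem root_mem_commutator (h2 : (2 : F) ≠ 0) (h3 : (3 : F) ≠ 0) (H : Subgroup (GL (Fin 2) F))
    (hu : ∀ t, upperMat t ∈ H) (hl : ∀ t, lowerMat t ∈ H) :
    (∀ t, upperMat t ∈ ⁅H, H⁆) ∧ ∀ t, lowerMat t ∈ ⁅H, H⁆ := by
  set d : GL (Fin 2) F :=
    upperMat 2 * lowerMat (-(2 : F)⁻¹) * upperMat 2 * (upperMat (-1) * lowerMat 1 * upperMat (-1))
      with hd
  have hdH : d ∈ H :=
    H.mul_mem (H.mul_mem (H.mul_mem (hu _) (hl _)) (hu _)) (H.mul_mem (H.mul_mem (hu _) (hl _)) (hu _))
  have hdval : (d : Matrix (Fin 2) (Fin 2) F) = !![2, 0; 0, (2 : F)⁻¹] := by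
    rw [hd]
    ext i j
    fin_cases i <;> fin_cases j <;>
      simp [upperMat, lowerMat, mul_apply, Fin.sum_univ_two, h2] <;> field_simp <;> ring
  clear_value d
  have hdu : ∀ t, d * upperMat t = upperMat (4 * t) * d := fun t => by
    refine Units.ext ?_
    rw [Units.val_mul, Units.val_mul, hdval]
    ext i j
    fin_cases i <;> fin_cases j <;> simp [upperMat, mul_apply, Fin.sum_univ_two] <;> field_simp <;> ring
  have hdl : ∀ t, d * lowerMat t = lowerMat ((4 : F)⁻¹ * t) * d := fun t => by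
    have h4 : (4 : F) ≠ 0 := by
      rw [show (4 : F) = 2 * 2 by norm_num]; exact mul_ne_zero h2 h2
    refine Units.ext ?_
    rw [Units.val_mul, Units.val_mul, hdval]
    ext i j
    fin_cases i <;> fin_cases j <;> simp [lowerMat, mul_apply, Fin.sum_univ_two] <;> field_simp <;> ring
  have hui : ∀ t : F, (upperMat t)⁻¹ = upperMat (-t) := fun t =>
    inv_eq_of_mul_eq_one_right (by rw [upperMat_add, add_neg_cancel, upperMat_zero])
  have hli : ∀ t : F, (lowerMat t)⁻¹ = lowerMat (-t) := fun t =>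
    inv_eq_of_mul_eq_one_right (by rw [lowerMat_add, add_neg_cancel, lowerMat_zero])
  constructor
  · intro t
    have h := Subgroup.commutator_mem_commutator hdH (hu (3⁻¹ * t))
    rw [commutatorElement_def, hdu, mul_inv_cancel_right, hui, upperMat_add] at h
    have e : 4 * (3⁻¹ * t) + -(3⁻¹ * t) = t := by field_simp; ring
    rwa [e] at h
  · intro t
    have h4 : (4 : F) ≠ 0 := by
      rw [show (4 : F) = 2 * 2 by norm_num]; exact mul_ne_zero h2 h2
    have h := Subgroup.commutator_mem_commutator hdH (hl (-(4 / 3) * t))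
    rw [commutatorElement_def, hdl, mul_inv_cancel_right, hli, lowerMat_add] at h
    have e : (4 : F)⁻¹ * (-(4 / 3) * t) + -(-(4 / 3) * t) = t := by field_simp; ring
    rwa [e] at h

/-- No solvable group contains both root subgroups. -/
theorem root_not_solvable [Finite F] (h2 : (2 : F) ≠ 0) (h3 : (3 : F) ≠ 0)
    (I : Subgroup (GL (Fin 2) F)) (hI : Group.IsSolvable I) (hu : ∀ t, upperMat t ∈ I)
    (hl : ∀ t, lowerMat t ∈ I) : False := by
  obtain ⟨H, ⟨hHI, hHu, hHl⟩, hmin⟩ := wellFounded_lt.has_min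
    {H : Subgroup (GL (Fin 2) F) | H ≤ I ∧ (∀ t, upperMat t ∈ H) ∧ ∀ t, lowerMat t ∈ H}
    ⟨I, le_rfl, hu, hl⟩
  obtain ⟨h1, h1'⟩ := root_mem_commutator h2 h3 H hHu hHl
  have hle : ⁅H, H⁆ ≤ H :=
    Subgroup.commutator_le.2 fun a ha b hb => by
      rw [commutatorElement_def]
      exact H.mul_mem (H.mul_mem (H.mul_mem ha hb) (H.inv_mem ha)) (H.inv_mem hb)
  have heq : ⁅H, H⁆ = H := eq_of_le_of_not_lt hle (hmin _ ⟨hle.trans hHI, h1, h1'⟩)
  haveI := hI
  haveI : Group.IsSolvable H :=
    Group.isSolvable_of_isSolvable_injective (Subgroup.inclusion_injective hHI)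
  have hne : (upperMat (1 : F)) ≠ 1 := fun e => by
    have := congrArg (fun x : GL (Fin 2) F => (x : Matrix (Fin 2) (Fin 2) F) 0 1) e
    simp [upperMat] at this
  haveI : Nontrivial H := ⟨⟨⟨_, hHu 1⟩, 1, fun e => hne (congrArg Subtype.val e)⟩⟩
  have hlt := Group.IsSolvable.commutator_lt_top_of_nontrivial H
  rw [← Subgroup.map_subtype_lt_map_subtype, Subgroup.map_subtype_commutator,
    ← MonoidHom.range_eq_map, Subgroup.range_subtype, heq] at hlt
  exact lt_irrefl _ hlt

/-- Two transvection-like conjugations on a plane `⟨l, m⟩`. -/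
theorem plane_contra {Q : Type*} [Group Q] [Group.IsSolvable Q] {p : ℕ} [Fact p.Prime] (hp5 : 5 ≤ p)
    (g h l m : Q) (hlm : Commute l m) (hlp : l ^ p = 1) (hmp : m ^ p = 1)
    (hind : ∀ i j : ℕ, l ^ i * m ^ j = 1 → p ∣ i ∧ p ∣ j) (a b : ℕ) (ha : ¬ p ∣ a) (hb : ¬ p ∣ b)
    (hgl : g * l * g⁻¹ = l) (hgm : g * m * g⁻¹ = m * l ^ a)
    (hhm : h * m * h⁻¹ = m) (hhl : h * l * h⁻¹ = l * m ^ b) : False := by
  have hp : p.Prime := Fact.out
  let pl : (Fin 2 → ZMod p) → Q := fun v => l ^ (v 0).val * m ^ (v 1).val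
  have hl' : ∀ i : ℕ, l ^ (i % p) = l ^ i := fun i => by
    rw [pow_eq_pow_mod i hlp]
  have hm' : ∀ i : ℕ, m ^ (i % p) = m ^ i := fun i => by
    rw [pow_eq_pow_mod i hmp]
  have hcast : ∀ (v : Fin 2 → ZMod p) (i j : ℕ), v 0 = i → v 1 = j → pl v = l ^ i * m ^ j := by
    intro v i j h0 h1
    show l ^ (v 0).val * m ^ (v 1).val = _
    rw [h0, h1, ZMod.val_natCast, ZMod.val_natCast, hl', hm']
  have hplinj : Function.Injective pl := by
    intro v w hvw
    have hvw' : l ^ (v 0).val * m ^ (v 1).val = l ^ (w 0).val * m ^ (w 1).val := hvw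
    have hd0 := hind ((v 0).val + (p - (w 0).val)) ((v 1).val + (p - (w 1).val)) (by
      rw [pow_add, pow_add, ((hlm.pow_pow (p - (w 0).val) (v 1).val)).mul_mul_mul_comm, hvw',
        ← ((hlm.pow_pow (p - (w 0).val) (w 1).val)).mul_mul_mul_comm, ← pow_add, ← pow_add,
        Nat.add_sub_cancel' (ZMod.val_lt _).le, Nat.add_sub_cancel' (ZMod.val_lt _).le, hlp, hmp,
        one_mul])
    funext i
    fin_cases i
    · have := (ZMod.natCast_eq_zero_iff _ p).2 hd0.1
      rw [Nat.cast_add, Nat.cast_sub (ZMod.val_lt _).le, ZMod.natCast_self, ZMod.natCast_zmod_val,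
        ZMod.natCast_zmod_val, zero_sub, ← sub_eq_add_neg, sub_eq_zero] at this
      exact this
    · have := (ZMod.natCast_eq_zero_iff _ p).2 hd0.2
      rw [Nat.cast_add, Nat.cast_sub (ZMod.val_lt _).le, ZMod.natCast_self, ZMod.natCast_zmod_val,
        ZMod.natCast_zmod_val, zero_sub, ← sub_eq_add_neg, sub_eq_zero] at this
      exact this
  let P : Subgroup (Q × GL (Fin 2) (ZMod p)) :=
    { carrier := {x | ∀ v, x.1 * pl v * x.1⁻¹ = pl ((x.2 : Matrix (Fin 2) (Fin 2) (ZMod p)) *ᵥ v)}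
      one_mem' := fun v => by simp
      mul_mem' := fun {x y} hx hy v => by
        show x.1 * y.1 * pl v * (x.1 * y.1)⁻¹ = pl (((x.2 * y.2 : GL _ _) : Matrix _ _ _) *ᵥ v)
        rw [Units.val_mul, ← mulVec_mulVec, ← hx, ← hy]
        group
      inv_mem' := fun {x} hx v => by
        show x.1⁻¹ * pl v * x.1⁻¹⁻¹ = pl (((x.2⁻¹ : GL _ _) : Matrix _ _ _) *ᵥ v)
        have h1 := hx (((x.2⁻¹ : GL _ _) : Matrix (Fin 2) (Fin 2) (ZMod p)) *ᵥ v)
        rw [mulVec_mulVec, ← Units.val_mul, mul_inv_cancel, Units.val_one, one_mulVec] at h1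
        rw [← h1]
        group }
  let f : P →* GL (Fin 2) (ZMod p) := (MonoidHom.snd _ _).comp P.subtype
  have hinj : Function.Injective ((MonoidHom.fst Q (GL (Fin 2) (ZMod p))).comp P.subtype) := by
    rintro ⟨⟨x, M⟩, hx⟩ ⟨⟨y, N⟩, hy⟩ hxy
    obtain rfl : x = y := hxy
    refine Subtype.ext (Prod.ext rfl (Units.ext ?_))
    refine Matrix.mulVec_injective.eq_iff.1 ?_ |> fun e => e
    funext v
    exact hplinj ((hx v).symm.trans (hy v))
  haveI : Group.IsSolvable P := Group.isSolvable_of_isSolvable_injective hinj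
  have hI : Group.IsSolvable f.range := Group.isSolvable_of_surjective f.rangeRestrict_surjective
  have hu : upperMat ((a : ℕ) : ZMod p) ∈ f.range := by
    refine ⟨⟨(g, upperMat (a : ZMod p)), fun v => ?_⟩, rfl⟩
    show g * pl v * g⁻¹ = pl (((upperMat (a : ZMod p) : GL _ _) : Matrix _ _ _) *ᵥ v)
    refine Eq.trans ?_ (hcast _ ((v 0).val + a * (v 1).val) (v 1).val
      (by simp [upperMat, mulVec, dotProduct, Fin.sum_univ_two])
      (by simp [upperMat, mulVec, dotProduct, Fin.sum_univ_two])).symm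
    show g * (l ^ (v 0).val * m ^ (v 1).val) * g⁻¹ = _
    rw [conj_mul.symm, ← conj_pow, ← conj_pow, hgl, hgm, (hlm.symm.pow_right a).mul_pow, ← pow_mul,
      pow_add, mul_assoc, (hlm.symm.pow_pow (v 1).val (a * (v 1).val)).eq]
  have hl : lowerMat ((b : ℕ) : ZMod p) ∈ f.range := by
    refine ⟨⟨(h, lowerMat (b : ZMod p)), fun v => ?_⟩, rfl⟩
    show h * pl v * h⁻¹ = pl (((lowerMat (b : ZMod p) : GL _ _) : Matrix _ _ _) *ᵥ v)
    refine Eq.trans ?_ (hcast _ (v 0).val (b * (v 0).val + (v 1).val)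
      (by simp [lowerMat, mulVec, dotProduct, Fin.sum_univ_two])
      (by simp [lowerMat, mulVec, dotProduct, Fin.sum_univ_two])).symm
    show h * (l ^ (v 0).val * m ^ (v 1).val) * h⁻¹ = _
    rw [conj_mul.symm, ← conj_pow, ← conj_pow, hhl, hhm, (hlm.pow_right b).mul_pow, ← pow_mul,
      pow_add, mul_assoc]
  have hgenu : ∀ t : ZMod p, upperMat t ∈ f.range := by
    intro t
    have hpow : ∀ k : ℕ, upperMat ((k : ZMod p) * (a : ZMod p)) ∈ f.range := by
      intro k
      induction k with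
      | zero => simpa [upperMat_zero] using f.range.one_mem
      | succ k ih =>
        rw [Nat.cast_succ, add_mul, one_mul, ← upperMat_add]
        exact f.range.mul_mem ih hu
    have := hpow (t / (a : ZMod p)).val
    rwa [ZMod.natCast_zmod_val, div_mul_cancel₀] at this
    exact fun e => ha ((ZMod.natCast_eq_zero_iff _ p).1 e)
  have hgenl : ∀ t : ZMod p, lowerMat t ∈ f.range := by
    intro t
    have hpow : ∀ k : ℕ, lowerMat ((k : ZMod p) * (b : ZMod p)) ∈ f.range := by
      intro k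
      induction k with
      | zero => simpa [lowerMat_zero] using f.range.one_mem
      | succ k ih =>
        rw [Nat.cast_succ, add_mul, one_mul, ← lowerMat_add]
        exact f.range.mul_mem ih hl
    have := hpow (t / (b : ZMod p)).val
    rwa [ZMod.natCast_zmod_val, div_mul_cancel₀] at this
    exact fun e => hb ((ZMod.natCast_eq_zero_iff _ p).1 e)
  have hsmall : ∀ k : ℕ, 0 < k → k < 5 → ((k : ℕ) : ZMod p) ≠ 0 := fun k hk hk5 e => by
    have := Nat.le_of_dvd hk ((ZMod.natCast_eq_zero_iff _ p).1 e)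
    omega
  exact root_not_solvable (by exact_mod_cast hsmall 2 (by norm_num) (by norm_num))
    (by exact_mod_cast hsmall 3 (by norm_num) (by norm_num)) f.range hI hgenu hgenl

end CfsgLib.Flavell
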