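import Mathlib
import Cfsg.Agent.Flavell.Bound
import Cfsg.Agent.Flavell.Plane
import Cfsg.Agent.HallHigman.Critical
import Cfsg.Agent.Solvable.Basics

/-!
An element of prime order at least five whose conjugates generate a solvable group fixes less than
half of any faithful irreducible module over an algebraically closed field.
-/

set_option autoImplicit false
set_option linter.style.haveILetI false
set_option linter.unusedSectionVars false

namespace CfsgLib.Flavell

open MulAction CfsgLib.HallHigman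

variable {K : Type*} [Field K] {W : Type*} [AddCommGroup W] [Module K W] [FiniteDimensional K W]

/-- Weight spaces with distinct weights are independent. -/
theorem weight_indep {ι Ω : Type*} [Fintype Ω] (F : ι → Module.End K W) (l : Ω → ι → K)
    (hl : Function.Injective l) (v : Ω → W) (hv : ∀ i, v i ∈ weight F (l i)) (hsum : ∑ i, v i = 0)
    (i : Ω) : v i = 0 := by
  classical
  refine eq_zero_of_mem_sup F ((Finset.univ.erase i).image l) (l i) ?_ _ (hv i) ?_
  · intro h
    obtain ⟨j, hj, hji⟩ := Finset.mem_image.1 h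
    exact Finset.ne_of_mem_erase hj (hl hji)
  · rw [← Finset.add_sum_erase _ _ (Finset.mem_univ i), add_eq_zero_iff_eq_neg] at hsum
    rw [hsum]
    refine Submodule.neg_mem _ (Submodule.sum_mem _ fun j hj => ?_)
    exact Finset.le_sup (f := weight F) (Finset.mem_image_of_mem l hj) (hv j)

/-- An abelian normal subgroup that is not scalar gives a monomial decomposition, and then the
bound holds. -/
theorem monomial_bound {G : Type*} [Group G] [Finite G] [Group.IsSolvable G] [IsAlgClosed K] [Nontrivial W]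
    {p : ℕ} (hp : p.Prime) (hp5 : 5 ≤ p) (g : G) (hgp : g ^ p = 1)
    (hgen : Subgroup.normalClosure {g} = ⊤) (ρ : G →* Module.End K W)
    (hirr : ∀ U : Submodule K W, (∀ x, ∀ u ∈ U, ρ x u ∈ U) → U = ⊥ ∨ U = ⊤)
    (A : Subgroup G) [A.Normal] (hab : ∀ a ∈ A, ∀ b ∈ A, a * b = b * a)
    (hns : ∃ a ∈ A, ∀ c : K, ρ a ≠ c • 1) :
    2 * Module.finrank K (LinearMap.ker (ρ g - 1)) < Module.finrank K W := by
  classical
  let F : A → Module.End K W := fun a => ρ a
  have hF : ∀ a b : A, Commute (F a) (F b) := fun a b => by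
    show ρ a * ρ b = ρ b * ρ a
    rw [← map_mul, ← map_mul, hab a a.2 b b.2]
  let act : G → (A → K) → (A → K) := fun x l a => l (MulAut.conjNormal x⁻¹ a)
  have hmap : ∀ (x : G) (l : A → K) (w : W), w ∈ weight F l → ρ x w ∈ weight F (act x l) := by
    intro x l w hw
    rw [mem_weight] at hw ⊢
    intro a
    have h1 := hw (MulAut.conjNormal x⁻¹ a)
    show ρ a (ρ x w) = l (MulAut.conjNormal x⁻¹ a) • ρ x w
    rw [← map_smul, ← h1]
    show _ = ρ x (ρ ((MulAut.conjNormal x⁻¹ a : A) : G) w)
    rw [← Module.End.mul_apply, ← Module.End.mul_apply, ← map_mul, ← map_mul,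
      MulAut.conjNormal_apply]
    congr 2
    group
  have hactmul : ∀ x y l, act (x * y) l = act x (act y l) := fun x y l => by
    funext a
    show l _ = l _
    congr 1
    rw [mul_inv_rev, map_mul]; rfl
  have hactone : ∀ l, act 1 l = l := fun l => by
    funext a
    show l _ = l a
    congr 1
    rw [inv_one, map_one]; rfl
  let Ω := {l : A → K // weight F l ≠ ⊥}
  have hne : ∀ (x : G) (l : Ω), weight F (act x l.1) ≠ ⊥ := by
    intro x l h
    obtain ⟨w, hw, hw0⟩ := (Submodule.ne_bot_iff _).1 l.2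
    have h1 := hmap x l.1 w hw
    rw [h, Submodule.mem_bot] at h1
    apply hw0
    have h2 := congrArg (ρ x⁻¹) h1
    rwa [← Module.End.mul_apply, ← map_mul, inv_mul_cancel, map_one, map_zero] at h2
  letI : MulAction G Ω :=
    { smul := fun x l => ⟨act x l.1, hne x l⟩
      one_smul := fun l => Subtype.ext (hactone l.1)
      mul_smul := fun x y l => Subtype.ext (hactmul x y l.1) }
  choose v hv hv0 using fun l : Ω => (Submodule.ne_bot_iff _).1 l.2
  haveI : Finite Ω :=
    (linearIndependent_weight F v (fun l => l.1) Subtype.val_injective hv hv0).finite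
  haveI := Fintype.ofFinite Ω
  obtain ⟨l₀, hl₀⟩ := exists_weight F hF
  let o : Ω := ⟨l₀, hl₀⟩
  have hsmul : ∀ (x : G) (m : Ω), (x • m).1 = act x m.1 := fun x m => rfl
  clear_value act
  have hUtop : (⨆ x : G, weight F (x • o).1) = ⊤ := by
    refine (hirr _ fun y u hu => ?_).resolve_left fun h => hl₀ (le_bot_iff.1 (h ▸ ?_))
    · induction hu using Submodule.iSup_induction' with
      | mem x w hw =>
        refine Submodule.mem_iSup_of_mem (y * x) ?_
        have e1 : ((y * x) • o).1 = act y (x • o).1 :=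
          (congrArg Subtype.val (mul_smul y x o)).trans (hsmul y (x • o))
        rw [e1]
        exact hmap y (x • o).1 w hw
      | zero => rw [map_zero]; exact Submodule.zero_mem _
      | add a b _ _ ha hb => rw [map_add]; exact Submodule.add_mem _ ha hb
    · refine le_trans (le_of_eq ?_) (le_iSup (fun x : G => weight F (x • o).1) 1)
      exact congrArg (weight F) ((hsmul 1 o).trans (hactone l₀)).symm
  haveI : IsPretransitive G Ω := by
    suffices h : ∀ l : Ω, ∃ x : G, x • o = l by
      exact ⟨fun a b => by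
        obtain ⟨x, rfl⟩ := h a
        obtain ⟨y, rfl⟩ := h b
        exact ⟨y * x⁻¹, by rw [mul_smul, inv_smul_smul]⟩⟩
    intro l
    by_contra hno
    push Not at hno
    refine hv0 l (eq_zero_of_mem_sup F ((Finset.univ.filter fun m : Ω => ∃ x : G, x • o = m).image
      Subtype.val) l.1 ?_ _ (hv l) ?_)
    · intro h
      obtain ⟨m, hm, hml⟩ := Finset.mem_image.1 h
      obtain ⟨x, hx⟩ := (Finset.mem_filter.1 hm).2
      exact hno x (hx.trans (Subtype.ext hml))
    · have hle : (⨆ x : G, weight F (x • o).1) ≤ ((Finset.univ.filter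
          fun m : Ω => ∃ x : G, x • o = m).image Subtype.val).sup (weight F) :=
        iSup_le fun x => Finset.le_sup (f := weight F)
          (Finset.mem_image_of_mem _ (Finset.mem_filter.2 ⟨Finset.mem_univ _, x, rfl⟩))
      exact hle (hUtop ▸ Submodule.mem_top)
  have hgrad : Grading (fun l : Ω => weight F l.1) := by
    refine ⟨fun u hu hsum => weight_indep F Subtype.val Subtype.val_injective u hu hsum, fun x => ?_⟩
    have hx : x ∈ ⨆ l : Ω, weight F l.1 :=
      (iSup_le fun y => le_iSup (fun l : Ω => weight F l.1) (y • o)) (hUtop ▸ Submodule.mem_top)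
    obtain ⟨f, hf, hfx⟩ := (Submodule.mem_iSup_iff_exists_finsupp _ _).1 hx
    exact ⟨f, hf, by rw [← hfx, Finsupp.sum_fintype _ _ fun _ => rfl]⟩
  have hdim : ∀ l : Ω, Module.finrank K (weight F l.1) = Module.finrank K (weight F l₀) := by
    have hle : ∀ (x : G) (l : Ω),
        Module.finrank K (weight F l.1) ≤ Module.finrank K (weight F (x • l).1) := by
      intro x l
      refine LinearMap.finrank_le_finrank_of_injective
        (f := ((ρ x).comp (weight F l.1).subtype).codRestrict _ fun w => hmap x l.1 w w.2) ?_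
      intro a b hab
      refine Subtype.ext ?_
      have h1 : ρ x (a : W) = ρ x (b : W) := congrArg Subtype.val hab
      have h2 := congrArg (ρ x⁻¹) h1
      rwa [← Module.End.mul_apply, ← Module.End.mul_apply, ← map_mul, inv_mul_cancel, map_one] at h2
    intro l
    obtain ⟨x, rfl⟩ := MulAction.exists_smul_eq G o l
    refine le_antisymm ?_ (hle x o)
    have := hle x⁻¹ (x • o)
    rwa [inv_smul_smul] at this
  haveI : Nontrivial Ω := by
    rw [← not_subsingleton_iff_nontrivial]
    intro hs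
    obtain ⟨a, ha, hnsc⟩ := hns
    refine hnsc (l₀ ⟨a, ha⟩) (LinearMap.ext fun w => ?_)
    obtain ⟨u, hu, rfl⟩ := hgrad.span w
    rw [map_sum, LinearMap.smul_apply, Module.End.one_apply, Finset.smul_sum]
    refine Finset.sum_congr rfl fun l _ => ?_
    have h1 := mem_weight.1 (hu l) ⟨a, ha⟩
    rw [show l.1 = l₀ from congrArg Subtype.val (Subsingleton.elim l o)] at h1
    exact h1
  have hσp : (MulAction.toPermHom G Ω g) ^ p = 1 := by rw [← map_pow, hgp, map_one]
  have hb := hgrad.fixed_le hdim hp (MulAction.toPermHom G Ω g) hσp (ρ g) fun l w hw => hmap g l.1 w hw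
  have hf : Nat.card (fixedBy Ω (MulAction.toPermHom G Ω g)) = Nat.card (fixedBy Ω g) := rfl
  have hfix := fixed_transitive hp g hgp hgen (Ω := Ω)
  have hn := hgrad.finrank_eq hdim
  rw [← Nat.card_eq_fintype_card] at hn
  have hd : 0 < Module.finrank K (weight F l₀) := Submodule.one_le_finrank_iff.2 hl₀
  rw [hf] at hb
  rw [hn]
  set c := Module.finrank K (LinearMap.ker (ρ g - 1))
  set d := Module.finrank K (weight F l₀)
  set N := Nat.card Ω
  set f := Nat.card (fixedBy Ω g)
  have hN : 0 < N := Nat.card_pos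
  obtain ⟨r, rfl⟩ : ∃ r, p = 5 + r := ⟨p - 5, by omega⟩
  rw [show 5 + r - 1 = 4 + r by omega] at hb
  have key : (5 + r) * ((5 + r) * c) ≤ d * ((9 + 2 * r) * N) := by
    calc (5 + r) * ((5 + r) * c) ≤ (5 + r) * (d * (N + (4 + r) * f)) := Nat.mul_le_mul_left _ hb
      _ = d * ((5 + r) * N + (4 + r) * ((5 + r) * f)) := by ring
      _ ≤ d * ((5 + r) * N + (4 + r) * N) :=
        Nat.mul_le_mul_left _ (Nat.add_le_add_left (Nat.mul_le_mul_left _ hfix) _)
      _ = d * ((9 + 2 * r) * N) := by ring
  by_contra hc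
  push Not at hc
  nlinarith [Nat.mul_le_mul_left ((5 + r) * (5 + r)) hc, Nat.mul_pos hN hd, Nat.zero_le (r * (N * d)),
    Nat.zero_le (r * r * (N * d))]

/-- The fixed space of an operator has dimension whose square is less than that of its centraliser. -/
theorem fixed_sq_lt (T T' : Module.End K W) (hTT : T * T' = 1) (hT : T ≠ 1)
    (A : Module.End K (Module.End K W)) (hA : ∀ φ, A φ = T * φ * T') :
    Module.finrank K (LinearMap.ker (T - 1)) * Module.finrank K (LinearMap.ker (T - 1)) <
      Module.finrank K (LinearMap.ker (A - 1)) := by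
  set R := LinearMap.range (T - 1) with hR
  set C := LinearMap.ker (T - 1) with hC
  let Φ : ((W ⧸ R) →ₗ[K] C) →ₗ[K] Module.End K W :=
    { toFun := fun φ => C.subtype.comp (φ.comp R.mkQ)
      map_add' := fun φ ψ => by ext w; simp
      map_smul' := fun c φ => by ext w; simp }
  have hΦinj : Function.Injective Φ := fun φ ψ h => by
    refine LinearMap.ext fun w => ?_
    obtain ⟨w, rfl⟩ := R.mkQ_surjective w
    exact Subtype.ext (LinearMap.congr_fun h w)
  have hΦ : LinearMap.range Φ ≤ LinearMap.ker (A - 1) := by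
    rintro _ ⟨φ, rfl⟩
    rw [LinearMap.mem_ker, LinearMap.sub_apply, Module.End.one_apply, hA, sub_eq_zero]
    have h1 : T * Φ φ = Φ φ := by
      refine LinearMap.ext fun w => ?_
      have h2 : (T - 1) ((φ (R.mkQ w) : C) : W) = 0 := LinearMap.mem_ker.1 (φ (R.mkQ w)).2
      rw [LinearMap.sub_apply, Module.End.one_apply, sub_eq_zero] at h2
      exact h2
    have h3 : Φ φ * T = Φ φ := by
      refine LinearMap.ext fun w => ?_
      show ((φ (R.mkQ (T w)) : C) : W) = ((φ (R.mkQ w) : C) : W)
      rw [Submodule.mkQ_apply, Submodule.mkQ_apply,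
        (Submodule.Quotient.eq R).2 (⟨w, by simp⟩ : T w - w ∈ R)]
    rw [h1]
    conv_lhs => rw [← h3, mul_assoc, hTT, mul_one]
  have hlt : LinearMap.range Φ < LinearMap.ker (A - 1) := by
    refine lt_of_le_of_ne hΦ fun he => hT ?_
    have hid : (1 : Module.End K W) ∈ LinearMap.range Φ := by
      rw [he, LinearMap.mem_ker, LinearMap.sub_apply, Module.End.one_apply, hA, mul_one, hTT, sub_self]
    obtain ⟨φ, hφ⟩ := hid
    refine LinearMap.ext fun w => ?_
    have h2 : (T - 1) ((φ (R.mkQ w) : C) : W) = 0 := LinearMap.mem_ker.1 (φ (R.mkQ w)).2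
    rw [show ((φ (R.mkQ w) : C) : W) = w from LinearMap.congr_fun hφ w,
      LinearMap.sub_apply, Module.End.one_apply, sub_eq_zero] at h2
    exact h2
  have h1 := Submodule.finrank_lt_finrank_of_lt hlt
  rw [LinearMap.finrank_range_of_inj hΦinj, Module.finrank_linearMap] at h1
  have h2 := Submodule.finrank_quotient_add_finrank R
  have h3 := LinearMap.finrank_range_add_finrank_ker (T - 1)
  rw [← hR, ← hC] at h3
  rw [show Module.finrank K (W ⧸ R) = Module.finrank K C by omega] at h1
  exact h1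

/-- The case in which every abelian normal subgroup is scalar. -/
theorem primitive_bound {G : Type*} [Group G] [Finite G] [Group.IsSolvable G] [Nontrivial W]
    {p : ℕ} (hp : p.Prime) (hp5 : 5 ≤ p) (g : G) (hgp : g ^ p = 1)
    (hgen : Subgroup.normalClosure {g} = ⊤) (ρ : G →* Module.End K W) (hg : ρ g ≠ 1)
    (hinj : Function.Injective ρ)
    (hscal : ∀ A : Subgroup G, A.Normal → (∀ a ∈ A, ∀ b ∈ A, a * b = b * a) →
      ∀ a ∈ A, ∃ c : K, ρ a = c • 1)
    (hns : ∃ x : G, ∀ c : K, ρ x ≠ c • 1) :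
    2 * Module.finrank K (LinearMap.ker (ρ g - 1)) < Module.finrank K W := by
  classical
  haveI := Fact.mk hp
  let S : Subgroup G :=
    { carrier := {x | ∃ c : K, ρ x = c • 1}
      one_mem' := ⟨1, by rw [map_one, one_smul]⟩
      mul_mem' := fun {x y} ⟨c, hx⟩ ⟨d, hy⟩ => ⟨c * d, by
        rw [map_mul, hx, hy, smul_mul_smul_comm, one_mul]⟩
      inv_mem' := fun {x} ⟨c, hx⟩ => by
        have h1 : ρ x⁻¹ * ρ x = 1 := by rw [← map_mul, inv_mul_cancel, map_one]
        rw [hx, mul_smul_comm, mul_one] at h1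
        have hc : c ≠ 0 := fun h => by rw [h, zero_smul] at h1; exact zero_ne_one h1
        exact ⟨c⁻¹, by rw [← h1, smul_smul, inv_mul_cancel₀ hc, one_smul]⟩ }
  haveI hSn : S.Normal := ⟨fun x ⟨c, hx⟩ y => ⟨c, by
    rw [map_mul, map_mul, hx, mul_smul_comm, mul_one, smul_mul_assoc, ← map_mul, mul_inv_cancel,
      map_one]⟩⟩
  set mk := QuotientGroup.mk' S with hmk
  have hsurj : Function.Surjective mk := QuotientGroup.mk'_surjective S
  haveI : Group.IsSolvable (G ⧸ S) := Group.isSolvable_of_surjective hsurj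
  have htop : (⊤ : Subgroup (G ⧸ S)) ≠ ⊥ := by
    intro h
    obtain ⟨x, hx⟩ := hns
    have : mk x ∈ (⊥ : Subgroup (G ⧸ S)) := h ▸ Subgroup.mem_top _
    rw [Subgroup.mem_bot, hmk, QuotientGroup.mk'_apply, QuotientGroup.eq_one_iff] at this
    obtain ⟨c, hc⟩ := this
    exact hx c hc
  obtain ⟨E, hEn, hE1, -, hEc, hEmin, q, hq, hexp, -⟩ :=
    CfsgLib.Solvable.exists_normal_elementary_le htop inferInstance
  haveI := hEn
  haveI := hEc
  have hEcomm : ∀ a ∈ E, ∀ b ∈ E, a * b = b * a := fun a ha b hb => setLike_mul_comm ha hb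
  -- conjugation on endomorphisms
  let Ad : G →* Module.End K (Module.End K W) :=
    { toFun := fun x => (LinearMap.mulLeft K (ρ x)).comp (LinearMap.mulRight K (ρ x⁻¹))
      map_one' := by ext φ; simp
      map_mul' := fun x y => by ext φ; simp [mul_assoc] }
  have hAd : ∀ x φ, Ad x φ = ρ x * φ * ρ x⁻¹ := fun x φ => by simp [Ad, mul_assoc]
  have hAdS : S ≤ Ad.ker := fun x hx => by
    obtain ⟨c, hc⟩ := hx
    rw [MonoidHom.mem_ker]
    refine LinearMap.ext fun φ => ?_
    rw [hAd, hc, smul_mul_assoc, one_mul, Module.End.one_apply]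
    rw [smul_mul_assoc, ← mul_smul_comm]
    conv_rhs => rw [← mul_one φ, ← map_one ρ, ← mul_inv_cancel x, map_mul, hc, smul_mul_assoc, one_mul]
  let AdQ : G ⧸ S →* Module.End K (Module.End K W) := QuotientGroup.lift S Ad hAdS
  have hAdQ : ∀ x, AdQ (mk x) = Ad x := fun x => rfl
  have hρne : ∀ x, ρ x ≠ 0 := fun x h => by
    have h1 : ρ x * ρ x⁻¹ = 1 := by rw [← map_mul, mul_inv_cancel, map_one]
    rw [h, zero_mul] at h1
    exact zero_ne_one h1
  -- the pairing
  have hωex : ∀ (a : E) (b : E), ∃ c : K, AdQ a (ρ (b : G ⧸ S).out) = c • ρ (b : G ⧸ S).out := by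
    intro a b
    set r := (a : G ⧸ S).out
    set s := (b : G ⧸ S).out
    have hr : mk r = (a : G ⧸ S) := Quotient.out_eq' _
    have hs : mk s = (b : G ⧸ S) := Quotient.out_eq' _
    have hrs : r * s * r⁻¹ * s⁻¹ ∈ S := by
      rw [← QuotientGroup.eq_one_iff (N := S)]
      show mk (r * s * r⁻¹ * s⁻¹) = 1
      rw [map_mul, map_mul, map_mul, map_inv, map_inv, hr, hs, hEcomm _ a.2 _ b.2, mul_inv_cancel_right,
        mul_inv_cancel]
    obtain ⟨c, hc⟩ := hrs
    refine ⟨c, ?_⟩
    rw [← hr, hAdQ, hAd, ← map_mul, ← map_mul, show r * s * r⁻¹ = r * s * r⁻¹ * s⁻¹ * s by group,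
      map_mul, hc, smul_mul_assoc, one_mul]
  choose ω hω using hωex
  have hωlift : ∀ (a b : E) (s : G), mk s = (b : G ⧸ S) → AdQ a (ρ s) = ω a b • ρ s := by
    intro a b s hs
    have hd : ((b : G ⧸ S).out)⁻¹ * s ∈ S :=
      QuotientGroup.eq.1 ((Quotient.out_eq' (b : G ⧸ S)).trans hs.symm)
    obtain ⟨c, hc⟩ := hd
    rw [show s = (b : G ⧸ S).out * ((b : G ⧸ S).out⁻¹ * s) by group, map_mul, hc, mul_smul_comm,
      mul_one, map_smul, hω, smul_comm]
  have huniq : ∀ (x : G) (c d : K), c • ρ x = d • ρ x → c = d := fun x c d h => by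
    rw [← sub_eq_zero, ← sub_smul, smul_eq_zero] at h
    exact sub_eq_zero.1 (h.resolve_right (hρne x))
  have hωmul : ∀ a a' b : E, ω (a * a') b = ω a b * ω a' b := fun a a' b => by
    refine huniq _ _ _ ((hω (a * a') b).symm.trans ?_)
    rw [Subgroup.coe_mul, map_mul, Module.End.mul_apply, hω, map_smul, hω, smul_smul, mul_comm]
  have hAdmul : ∀ (y : G ⧸ S) (φ ψ : Module.End K W), AdQ y (φ * ψ) = AdQ y φ * AdQ y ψ := by
    intro y φ ψ
    obtain ⟨x, rfl⟩ := hsurj y
    rw [hAdQ, hAd, hAd, hAd]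
    have : ρ x⁻¹ * ρ x = 1 := by rw [← map_mul, inv_mul_cancel, map_one]
    calc ρ x * (φ * ψ) * ρ x⁻¹ = ρ x * φ * 1 * ψ * ρ x⁻¹ := by rw [mul_one]; simp [mul_assoc]
      _ = _ := by rw [← this]; simp [mul_assoc]
  have hωmulr : ∀ a b b' : E, ω a (b * b') = ω a b * ω a b' := fun a b b' => by
    have hs : mk ((b : G ⧸ S).out * (b' : G ⧸ S).out) = ((b * b' : E) : G ⧸ S) := by
      rw [map_mul, Subgroup.coe_mul]
      exact congrArg₂ (· * ·) (Quotient.out_eq' _) (Quotient.out_eq' _)
    refine huniq _ _ _ ((hωlift a (b * b') _ hs).symm.trans ?_)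
    rw [map_mul, hAdmul, hω, hω, smul_mul_smul_comm]
  have hωone : ∀ b : E, ω 1 b = 1 := fun b => huniq _ _ _ ((hω 1 b).symm.trans (by
    rw [Subgroup.coe_one, map_one, Module.End.one_apply, one_smul]))
  have hω0 : ∀ a b : E, ω a b ≠ 0 := fun a b h => by
    have := hωmul a a⁻¹ b
    rw [mul_inv_cancel, hωone, h, zero_mul] at this
    exact one_ne_zero this
  have hωoner : ∀ a : E, ω a 1 = 1 := fun a => by
    have := hωmulr a 1 1
    rw [mul_one] at this
    exact (mul_eq_left₀ (hω0 a 1)).1 this.symm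
  have hωself : ∀ a : E, ω a a = 1 := fun a => huniq _ _ _ ((hω a a).symm.trans (by
    rw [one_smul]
    have hr : mk (a : G ⧸ S).out = (a : G ⧸ S) := Quotient.out_eq' _
    revert hr
    generalize (a : G ⧸ S).out = r
    intro hr
    rw [← hr, hAdQ, hAd, mul_assoc, ← map_mul, mul_inv_cancel, map_one, mul_one]))
  have hωsymm : ∀ a b : E, ω a b = 1 → ω b a = 1 := fun a b h => by
    have := hωself (a * b)
    rw [hωmul, hωmulr, hωmulr, hωself, hωself, h, one_mul, mul_one, one_mul] at this
    exact this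
  have hωinv : ∀ (y : G ⧸ S) (a b : E),
      ω (MulAut.conjNormal y a) (MulAut.conjNormal y b) = ω a b := by
    intro y a b
    obtain ⟨x, rfl⟩ := hsurj y
    set s := (b : G ⧸ S).out with hs
    have hs' : mk (x * s * x⁻¹) = ((MulAut.conjNormal (mk x) b : E) : G ⧸ S) := by
      rw [MulAut.conjNormal_apply, map_mul, map_mul, map_inv]
      exact congrArg (fun z => mk x * z * (mk x)⁻¹) (Quotient.out_eq' _)
    refine huniq _ _ _ ((hωlift _ _ _ hs').symm.trans ?_)
    have e1 : ρ (x * s * x⁻¹) = Ad x (ρ s) := by rw [hAd, map_mul, map_mul]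
    rw [e1, MulAut.conjNormal_apply, map_mul, map_mul, Module.End.mul_apply, Module.End.mul_apply,
      ← hAdQ x, ← Module.End.mul_apply (AdQ (mk x)⁻¹), ← map_mul AdQ, inv_mul_cancel, map_one,
      Module.End.one_apply, hω, map_smul]
  have hωq : ∀ a b : E, ω a b ^ q = 1 := fun a b => by
    have hpow : ∀ k : ℕ, ω (a ^ k) b = ω a b ^ k := fun k => by
      induction k with
      | zero => rw [pow_zero, pow_zero, hωone]
      | succ k ih => rw [pow_succ, pow_succ, hωmul, ih]
    rw [← hpow, show a ^ q = 1 from Subtype.ext (by simpa using hexp a a.2), hωone]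
  -- non-degeneracy
  have hrad : ∀ a : E, (∀ b : E, ω a b = 1) → a = 1 := by
    intro a ha
    let R : Subgroup (G ⧸ S) :=
      { carrier := {x | ∃ hx : x ∈ E, ∀ b : E, ω ⟨x, hx⟩ b = 1}
        one_mem' := ⟨one_mem _, fun b => hωone b⟩
        mul_mem' := fun {x y} ⟨hx, h1⟩ ⟨hy, h2⟩ => ⟨mul_mem hx hy, fun b =>
          (hωmul ⟨x, hx⟩ ⟨y, hy⟩ b).trans (by rw [h1, h2, one_mul])⟩
        inv_mem' := fun {x} ⟨hx, h1⟩ => ⟨inv_mem hx, fun b => by
          have := hωmul ⟨x, hx⟩ (⟨x, hx⟩⁻¹) b
          rw [mul_inv_cancel, hωone, h1, one_mul] at this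
          exact this.symm⟩ }
    have hRn : R.Normal := ⟨fun x ⟨hx, h1⟩ y => ⟨hEn.conj_mem x hx y, fun b => by
      have := hωinv y ⟨x, hx⟩ ((MulAut.conjNormal y).symm b)
      rw [MulEquiv.apply_symm_apply, h1] at this
      refine (congrArg (fun z => ω z b) (Subtype.ext ?_)).trans this
      rw [MulAut.conjNormal_apply]⟩⟩
    rcases hEmin R hRn (fun x hx => hx.1) with h | h
    · have : (a : G ⧸ S) ∈ R := ⟨a.2, ha⟩
      rw [h, Subgroup.mem_bot] at this
      exact Subtype.ext this
    · exfalso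
      refine hE1 (le_bot_iff.1 fun y hy => ?_)
      obtain ⟨x, rfl⟩ := hsurj y
      rw [Subgroup.mem_bot, hmk, QuotientGroup.mk'_apply, QuotientGroup.eq_one_iff]
      refine hscal (E.comap mk) (hEn.comap mk) (fun r hr s hs => ?_) x hy
      obtain ⟨_, h1⟩ := h.ge hr
      have h2 := hωlift ⟨mk r, hr⟩ ⟨mk s, hs⟩ s rfl
      rw [h1, one_smul] at h2
      change AdQ (mk r) (ρ s) = ρ s at h2
      rw [hAdQ, hAd] at h2
      have h3 : ρ r * ρ s = ρ s * ρ r := by
        conv_rhs => rw [← h2, mul_assoc, ← map_mul ρ r⁻¹ r, inv_mul_cancel, map_one, mul_one]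
      exact hinj (by rw [map_mul, map_mul, h3])
  -- the operator induced by `g`
  set σ : MulAut E := MulAut.conjNormal (mk g) with hσ
  have hσp : σ ^ p = 1 := by rw [hσ, ← map_pow, ← map_pow, hgp, map_one, map_one]
  have hσ1 : σ ≠ 1 := by
    intro h
    have hcent : ∀ a ∈ E, ∀ y, y * a = a * y := by
      intro a ha
      have hK : Subgroup.normalClosure {g} ≤ (Subgroup.centralizer (E : Set (G ⧸ S))).comap mk := by
        haveI : ((Subgroup.centralizer (E : Set (G ⧸ S))).comap mk).Normal :=
          Subgroup.Normal.comap inferInstance mk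
        refine Subgroup.normalClosure_le_normal fun y hy => ?_
        rw [Set.mem_singleton_iff] at hy
        rw [hy, SetLike.mem_coe, Subgroup.mem_comap, Subgroup.mem_centralizer_iff]
        intro b hb
        have h1 : mk g * b * (mk g)⁻¹ = b :=
          congrArg Subtype.val (DFunLike.congr_fun h (⟨b, hb⟩ : E))
        exact (mul_inv_eq_iff_eq_mul.1 h1).symm
      intro y
      obtain ⟨x, rfl⟩ := hsurj y
      exact (Subgroup.mem_centralizer_iff.1 (hK (hgen ▸ Subgroup.mem_top x)) a ha).symm
    obtain ⟨⟨a, haE⟩, ha1⟩ : ∃ a : E, a ≠ 1 := by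
      haveI := (Subgroup.nontrivial_iff_ne_bot E).2 hE1
      exact exists_ne 1
    have hz : (Subgroup.zpowers a).Normal := ⟨fun x hx y => by
      rw [hcent x ((Subgroup.zpowers_le.2 haE) hx) y, mul_inv_cancel_right]; exact hx⟩
    rcases hEmin _ hz (Subgroup.zpowers_le.2 haE) with h' | h'
    · exact ha1 (Subtype.ext (Subgroup.zpowers_eq_bot.1 h'))
    · refine ha1 (hrad _ fun b => ?_)
      obtain ⟨k, hk⟩ := (mem_powers_iff_mem_zpowers.2 (h' ▸ b.2 : (b : G ⧸ S) ∈ Subgroup.zpowers a))
      have hb : b = (⟨a, haE⟩ : E) ^ k := Subtype.ext (by simpa using hk.symm)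
      rw [hb]
      clear hb hk
      induction k with
      | zero => rw [pow_zero, hωoner]
      | succ k ih => rw [pow_succ, hωmulr, ih, hωself, one_mul]
  let C : Subgroup E :=
    { carrier := {a | σ a = a}
      mul_mem' := fun {a b} ha hb => by
        rw [Set.mem_setOf_eq] at ha hb ⊢; rw [map_mul, ha, hb]
      one_mem' := map_one σ
      inv_mem' := fun {a} ha => by
        rw [Set.mem_setOf_eq] at ha ⊢; rw [map_inv, ha] }
  obtain ⟨e, he, hie, hmod⟩ :=
    index_fixed hq hp (fun a : E => Subtype.ext (by simpa using hexp a a.2)) σ hσp hσ1 C fun a => Iff.rfl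
  -- the index is not prime
  have he2 : 2 ≤ e := by
    by_contra hlt
    obtain rfl : e = 1 := by omega
    rw [pow_one] at hie
    obtain ⟨x, hx⟩ : ∃ x, x ∉ C := by
      by_contra h
      push Not at h
      exact hq.ne_one (hie.symm.trans (Subgroup.index_eq_one.2 ((Subgroup.eq_top_iff' C).2 h)))
    set l := σ x * x⁻¹ with hl
    have hl1 : l ≠ 1 := fun h => hx (mul_inv_eq_one.1 h)
    have hlC : ∀ c ∈ C, ω l c = 1 := fun c hc => by
      have h1 : ω (σ x) (σ c) = ω x c := hωinv (mk g) x c
      rw [show σ c = c from hc] at h1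
      rw [hl, hωmul, h1, ← hωmul, mul_inv_cancel, hωone]
    haveI hCn : C.Normal := ⟨fun c hc y => by
      rw [show y * c = c * y from Subtype.ext (hEcomm _ y.2 _ c.2), mul_inv_cancel_right]; exact hc⟩
    have hgenC : ∀ z : E, z ∉ C → ∀ r : E, ∃ c ∈ C, ∃ k : ℤ, r = c * z ^ k := by
      intro z hz r
      have h1 : C ⊔ Subgroup.zpowers z = ⊤ := by
        rw [← Subgroup.index_eq_one]
        have h2 : (C ⊔ Subgroup.zpowers z).index ∣ q := hie ▸ Subgroup.index_dvd_of_le le_sup_left
        rcases (Nat.dvd_prime hq).1 h2 with h3 | h3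
        · exact h3
        · exfalso
          have h4 := Subgroup.relIndex_mul_index (show C ≤ C ⊔ Subgroup.zpowers z from le_sup_left)
          rw [h3, hie] at h4
          have h5 : C.relIndex (C ⊔ Subgroup.zpowers z) = 1 := by
            have := hq.pos
            nlinarith
          exact hz (Subgroup.relIndex_eq_one.1 h5 (Subgroup.mem_sup_right (Subgroup.mem_zpowers z)))
      obtain ⟨c, hc, w, hw, rfl⟩ := Subgroup.mem_sup_of_normal_left.1 (h1 ▸ Subgroup.mem_top r)
      obtain ⟨k, rfl⟩ := Subgroup.mem_zpowers_iff.1 hw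
      exact ⟨c, hc, k, rfl⟩
    have hlmem : l ∈ C := by
      by_contra hlC'
      refine hl1 (hrad l fun r => ?_)
      obtain ⟨c, hc, k, rfl⟩ := hgenC l hlC' r
      rw [hωmulr, hlC c hc, one_mul]
      obtain ⟨k, rfl | rfl⟩ := Int.eq_nat_or_neg k
      · induction k with
        | zero => simp [hωoner]
        | succ k ih => rw [zpow_natCast] at ih ⊢; rw [pow_succ, hωmulr, ih, hωself, one_mul]
      · have hk : ω l (l ^ (k : ℤ)) = 1 := by
          induction k with
          | zero => simp [hωoner]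
          | succ k ih => rw [zpow_natCast] at ih ⊢; rw [pow_succ, hωmulr, ih, hωself, one_mul]
        have := hωmulr l (l ^ (-(k : ℤ))) (l ^ (k : ℤ))
        rw [← zpow_add, neg_add_cancel, zpow_zero, hωoner, hk, mul_one] at this
        exact this.symm
    have hσl : σ l = l := hlmem
    have hσx : σ x = l * x := by rw [hl, inv_mul_cancel_right]
    have hpow : ∀ j : ℕ, (σ ^ j) x = l ^ j * x := fun j => by
      induction j with
      | zero => simp
      | succ j ih =>
        rw [pow_succ', MulAut.mul_apply, ih, map_mul, map_pow, hσl, hσx, ← mul_assoc, ← pow_succ]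
    have hlp : l ^ p = 1 := by
      have := hpow p
      rw [hσp] at this
      exact right_eq_mul.1 this
    have hlord : ∀ z : E, z ≠ 1 → orderOf z = q := fun z hz => by
      haveI := Fact.mk hq
      exact orderOf_eq_prime (Subtype.ext (by simpa using hexp z z.2)) hz
    obtain rfl : q = p := ((Nat.prime_dvd_prime_iff_eq hq hp).1 (hlord l hl1 ▸ orderOf_dvd_of_pow_eq_one hlp))
    have hdiff : ∀ r : E, σ r * r⁻¹ ∈ Subgroup.zpowers l := by
      intro r
      obtain ⟨c, hc, k, rfl⟩ := hgenC x hx r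
      rw [map_mul, map_zpow, show σ c = c from hc, hσx,
        (show Commute l x from Subtype.ext (hEcomm _ l.2 _ x.2)).mul_zpow]
      refine ⟨k, ?_⟩
      have h1 : c * (l ^ k * x ^ k) * (c * x ^ k)⁻¹ = c * l ^ k * c⁻¹ := by group
      show l ^ k = _
      rw [h1, show c * l ^ k = l ^ k * c from Subtype.ext (hEcomm _ c.2 _ (l ^ k).2), mul_inv_cancel_right]
    obtain ⟨y, hy⟩ : ∃ y : G ⧸ S, ω (MulAut.conjNormal y l) l ≠ 1 := by
      by_contra hall
      push Not at hall
      let T : Subgroup (G ⧸ S) :=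
        { carrier := {r | ∃ hr : r ∈ E, ∀ y, ω (MulAut.conjNormal y l) ⟨r, hr⟩ = 1}
          one_mem' := ⟨one_mem _, fun y => hωoner _⟩
          mul_mem' := fun {a b} ⟨ha, h1⟩ ⟨hb, h2⟩ => ⟨mul_mem ha hb, fun y =>
            (hωmulr _ ⟨a, ha⟩ ⟨b, hb⟩).trans (by rw [h1, h2, one_mul])⟩
          inv_mem' := fun {a} ⟨ha, h1⟩ => ⟨inv_mem ha, fun y => by
            have := hωmulr (MulAut.conjNormal y l) ⟨a, ha⟩ (⟨a, ha⟩⁻¹)
            rw [mul_inv_cancel, hωoner, h1, one_mul] at this
            exact this.symm⟩ }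
      have hTn : T.Normal := ⟨fun r ⟨hr, h1⟩ z => ⟨hEn.conj_mem r hr z, fun y => by
        have := hωinv z (MulAut.conjNormal (z⁻¹ * y) l) ⟨r, hr⟩
        rw [← MulAut.mul_apply, ← map_mul, mul_inv_cancel_left, h1] at this
        rw [show (⟨z * r * z⁻¹, hEn.conj_mem r hr z⟩ : E) = MulAut.conjNormal z ⟨r, hr⟩ from
          Subtype.ext (MulAut.conjNormal_apply z ⟨r, hr⟩).symm]
        exact this⟩⟩
      rcases hEmin T hTn (fun r hr => hr.1) with h | h
      · have hlT : (l : G ⧸ S) ∈ T := ⟨l.2, hall⟩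
        rw [h, Subgroup.mem_bot] at hlT
        exact hl1 (Subtype.ext hlT)
      · refine hl1 (hrad l fun b => ?_)
        obtain ⟨_, h1⟩ := h.ge b.2
        have := h1 1
        rw [map_one, MulAut.one_apply] at this
        exact this
    set m := MulAut.conjNormal y l with hm
    have hm1 : m ≠ 1 := fun h => hy (by rw [h, hωone])
    have hconj : ∀ r : E, ((σ r : E) : G ⧸ S) = mk g * r * (mk g)⁻¹ := fun r => MulAut.conjNormal_apply _ _
    obtain ⟨a, ha⟩ := mem_powers_iff_mem_zpowers.2 (hdiff m)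
    obtain ⟨b, hb⟩ := mem_powers_iff_mem_zpowers.2 (hdiff ((MulAut.conjNormal y).symm l))
    simp only at ha hb
    refine plane_contra hp5 (mk g) (y * mk g * y⁻¹) (l : G ⧸ S) (m : G ⧸ S) (hEcomm _ l.2 _ m.2)
      (hexp _ l.2) (hexp _ m.2) ?_ a b ?_ ?_ ?_ ?_ ?_ ?_
    · intro i j hij
      have hij' : l ^ i * m ^ j = 1 := Subtype.ext (by simpa using hij)
      have hmj : ω (m ^ j) l = ω m l ^ j := by
        clear hij hij'
        induction j with
        | zero => rw [pow_zero, pow_zero, hωone]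
        | succ j ih => rw [pow_succ, pow_succ, hωmul, ih]
      have hli : ω (l ^ i) l = 1 := by
        clear hij hij'
        induction i with
        | zero => rw [pow_zero, hωone]
        | succ i ih => rw [pow_succ, hωmul, ih, hωself, one_mul]
      have h1 : ω (l ^ i * m ^ j) l = 1 := by rw [hij', hωone]
      rw [hωmul, hli, one_mul, hmj] at h1
      have hord : orderOf (ω m l) = q := by
        haveI := Fact.mk hq
        exact orderOf_eq_prime (hωq _ _) hy
      have hj : q ∣ j := hord ▸ orderOf_dvd_of_pow_eq_one h1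
      rw [orderOf_dvd_iff_pow_eq_one.1 ((hlord m hm1).symm ▸ hj : orderOf m ∣ j), mul_one] at hij'
      exact ⟨hlord l hl1 ▸ orderOf_dvd_of_pow_eq_one hij', hj⟩
    · intro hd
      have h1 : σ m * m⁻¹ = 1 := ha.symm.trans (orderOf_dvd_iff_pow_eq_one.1 ((hlord l hl1).symm ▸ hd : orderOf l ∣ _))
      exact hy (hωsymm _ _ (hlC m (mul_inv_eq_one.1 h1)))
    · intro hd
      have h1 : σ ((MulAut.conjNormal y).symm l) * ((MulAut.conjNormal y).symm l)⁻¹ = 1 :=
        hb.symm.trans (orderOf_dvd_iff_pow_eq_one.1 ((hlord l hl1).symm ▸ hd : orderOf l ∣ _))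
      have h2 := hωinv y l ((MulAut.conjNormal y).symm l)
      rw [MulEquiv.apply_symm_apply, hlC _ (mul_inv_eq_one.1 h1)] at h2
      exact hy h2
    · rw [← hconj, hσl]
    · rw [← hconj, ← Subgroup.coe_pow, ← Subgroup.coe_mul]
      refine congrArg Subtype.val ?_
      rw [show m * l ^ a = l ^ a * m from Subtype.ext (hEcomm _ m.2 _ (l ^ a).2), ha, inv_mul_cancel_right]
    · rw [hm, MulAut.conjNormal_apply]
      calc y * mk g * y⁻¹ * (y * l * y⁻¹) * (y * mk g * y⁻¹)⁻¹ = y * (mk g * l * (mk g)⁻¹) * y⁻¹ := by group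
        _ = _ := by rw [← hconj, hσl]
    · set r := (MulAut.conjNormal y).symm l with hr
      have h1 : ((σ r : E) : G ⧸ S) = (l : G ⧸ S) ^ b * r := by
        rw [← Subgroup.coe_pow, ← Subgroup.coe_mul, hb, inv_mul_cancel_right]
      have h2 : y * (r : G ⧸ S) * y⁻¹ = l := by
        rw [← MulAut.conjNormal_apply, hr, MulEquiv.apply_symm_apply]
      calc y * mk g * y⁻¹ * l * (y * mk g * y⁻¹)⁻¹
          = y * (mk g * (y⁻¹ * l * y) * (mk g)⁻¹) * y⁻¹ := by group
        _ = y * ((l : G ⧸ S) ^ b * r) * y⁻¹ := by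
            rw [← h1, hconj, ← h2]; group
        _ = (y * l * y⁻¹) ^ b * (y * r * y⁻¹) := by rw [conj_pow]; group
        _ = _ := by
            rw [h2, hm, MulAut.conjNormal_apply]
            exact (((show Commute (y * (l : G ⧸ S) * y⁻¹) l from
              hEcomm _ (hEn.conj_mem _ l.2 y) _ l.2)).pow_left b).eq
  have hbig : 4 * (C.index + (p - 1)) ≤ p * C.index := by
    rcases eq_or_ne q p with h | h
    · subst h
      have : q * q ≤ C.index := by
        rw [hie, ← pow_two]; exact Nat.pow_le_pow_right hq.pos he2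
      obtain ⟨r, rfl⟩ : ∃ r, q = 5 + r := ⟨q - 5, by omega⟩
      rw [show 5 + r - 1 = 4 + r by omega]
      nlinarith
    · have hm := hmod h
      have h1 : 1 < C.index := hie ▸ Nat.one_lt_pow (by omega) hq.one_lt
      obtain ⟨k, hk⟩ := (Nat.modEq_iff_dvd' h1.le).1 hm.symm
      have hk' : C.index = p * k + 1 := by omega
      have hk1 : 1 ≤ k := by
        rcases k with _ | k
        · omega
        · omega
      rcases Nat.lt_or_ge p 7 with hp7 | hp7
      · obtain rfl : p = 5 := by
          interval_cases p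
          · rfl
          · norm_num at hp
        have hk3 : 3 ≤ k := by
          by_contra hk3
          interval_cases k
          · have h6 : q ^ e = 6 := by omega
            have h2 : 2 ∣ q := Nat.prime_two.dvd_of_dvd_pow (h6 ▸ by norm_num : 2 ∣ q ^ e)
            have h3 : 3 ∣ q := Nat.prime_three.dvd_of_dvd_pow (h6 ▸ by norm_num : 3 ∣ q ^ e)
            have := (Nat.prime_dvd_prime_iff_eq Nat.prime_two hq).1 h2
            have := (Nat.prime_dvd_prime_iff_eq Nat.prime_three hq).1 h3
            omega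
          · have h11 : q ^ e = 11 := by omega
            exact (Nat.Prime.not_prime_pow (x := q) he2) (h11 ▸ by norm_num)
        omega
      · obtain ⟨r, rfl⟩ : ∃ r, p = 7 + r := ⟨p - 7, by omega⟩
        rw [hk', show 7 + r - 1 = 6 + r by omega]
        nlinarith
  -- the decomposition of the endomorphism ring
  let FE : E → Module.End K (Module.End K W) := fun a => AdQ a
  have hcard : ((Nat.card E : ℕ) : K) ≠ 0 := by
    obtain ⟨a, b, hab⟩ : ∃ a b : E, ω a b ≠ 1 := by
      by_contra h
      push Not at h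
      obtain ⟨⟨a, haE⟩, ha1⟩ : ∃ a : E, a ≠ 1 := by
        haveI := (Subgroup.nontrivial_iff_ne_bot E).2 hE1
        exact exists_ne 1
      exact ha1 (hrad _ (h _))
    have hqK : (q : K) ≠ 0 := by
      intro h0
      haveI := Fact.mk hq
      haveI : CharP K q := CharP.charP_iff_prime_eq_zero hq |>.2 h0
      have h1 : (ω a b - 1) ^ q = 0 := by
        rw [sub_pow_char, one_pow, hωq, sub_self]
      exact hab (sub_eq_zero.1 (eq_zero_of_pow_eq_zero h1))
    haveI := Fact.mk hq
    obtain ⟨k, hk⟩ := IsPGroup.iff_card.1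
      (show IsPGroup q E from fun a => ⟨1, by rw [pow_one]; exact Subtype.ext (by simpa using hexp a a.2)⟩)
    rw [hk, Nat.cast_pow]
    exact pow_ne_zero _ hqK
  haveI := Fintype.ofFinite E
  let l : E → E → K := fun e a => ω a e
  have hl : Function.Injective l := by
    intro e e' h
    have : e * e'⁻¹ = 1 := hrad _ fun b => by
      refine hωsymm b _ ?_
      have h1 : ω b (e * e'⁻¹) * ω b e' = 1 * ω b e' := by
        rw [← hωmulr, inv_mul_cancel_right, one_mul]
        exact congrFun h b
      exact mul_right_cancel₀ (hω0 b e') h1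
    exact mul_inv_eq_one.1 this
  have hgrad : Grading (fun e : E => weight FE (l e)) := by
    refine ⟨fun u hu hsum => weight_indep FE l hl u hu hsum, fun φ => ?_⟩
    refine ⟨fun e => (Nat.card E : K)⁻¹ • ∑ a : E, (ω a e)⁻¹ • AdQ a φ,
      fun e => Submodule.smul_mem _ _ ?_, ?_⟩
    · rw [mem_weight]
      intro b
      show AdQ b _ = ω b e • _
      rw [map_sum, Finset.smul_sum]
      refine Fintype.sum_equiv (Equiv.mulLeft b) _ _ fun a => ?_
      rw [Equiv.coe_mulLeft, map_smul, Subgroup.coe_mul, map_mul, Module.End.mul_apply, smul_smul, hωmul,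
        mul_inv, ← mul_assoc, mul_inv_cancel₀ (hω0 b e), one_mul]
    · rw [← Finset.smul_sum, Finset.sum_comm]
      simp only [← Finset.sum_smul]
      rw [Finset.sum_eq_single (1 : E)]
      · simp only [hωone, inv_one, Finset.sum_const, Finset.card_univ, nsmul_eq_mul, mul_one,
          Subgroup.coe_one, map_one, Module.End.one_apply, smul_smul, ← Nat.card_eq_fintype_card]
        rw [inv_mul_cancel₀ hcard, one_smul]
      · intro a _ ha
        obtain ⟨b, hb⟩ : ∃ b, ω a b ≠ 1 := by
          by_contra h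
          push Not at h
          exact ha (hrad a h)
        have h1 : ω a b * ∑ e : E, (ω a e)⁻¹ = ∑ e : E, (ω a e)⁻¹ := by
          rw [Finset.mul_sum]
          refine (Fintype.sum_equiv (Equiv.mulLeft b) _ _ fun e => ?_).symm
          rw [Equiv.coe_mulLeft, hωmulr, mul_inv, ← mul_assoc, mul_inv_cancel₀ (hω0 a b), one_mul]
        have h2 : ∑ e : E, (ω a e)⁻¹ = 0 := by
          have h3 : (ω a b - 1) * ∑ e : E, (ω a e)⁻¹ = 0 := by rw [sub_mul, h1, one_mul, sub_self]
          exact (mul_eq_zero.1 h3).resolve_left (sub_ne_zero.2 hb)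
        rw [h2, zero_smul]
      · intro h; exact absurd (Finset.mem_univ _) h
  have hdim : ∀ e : E, Module.finrank K (weight FE (l e)) = Module.finrank K (weight FE (l 1)) := by
    have hle : ∀ (e c : E), Module.finrank K (weight FE (l c)) ≤
        Module.finrank K (weight FE (l (e * c))) := by
      intro e c
      refine LinearMap.finrank_le_finrank_of_injective
        (f := ((LinearMap.mulLeft K (ρ (e : G ⧸ S).out)).comp (weight FE (l c)).subtype).codRestrict _
          fun φ => ?_) ?_
      · rw [mem_weight]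
        intro a
        show AdQ a (ρ (e : G ⧸ S).out * (φ : Module.End K W)) = ω a (e * c) • (ρ _ * (φ : Module.End K W))
        rw [hAdmul, hω, hωmulr]
        have h1 : AdQ a (φ : Module.End K W) = ω a c • (φ : Module.End K W) := mem_weight.1 φ.2 a
        rw [h1, smul_mul_smul_comm]
      · intro φ ψ h
        refine Subtype.ext ?_
        have h1 : ρ (e : G ⧸ S).out * (φ : Module.End K W) = ρ (e : G ⧸ S).out * ψ :=
          congrArg Subtype.val h
        have h2 := congrArg (fun z => ρ ((e : G ⧸ S).out)⁻¹ * z) h1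
        simpa [← mul_assoc, ← map_mul] using h2
    intro e
    refine le_antisymm ?_ ?_
    · have := hle e⁻¹ e
      rwa [inv_mul_cancel] at this
    · have := hle e 1
      rwa [mul_one] at this
  have hT : ∀ e : E, ∀ φ ∈ weight FE (l e), Ad g φ ∈ weight FE (l (σ e)) := by
    intro e φ hφ
    rw [mem_weight]
    intro a
    have h1 : AdQ (σ.symm a : E) φ = ω (σ.symm a) e • φ := mem_weight.1 hφ (σ.symm a)
    have h2 := hωinv (mk g) (σ.symm a) e
    rw [← hσ, MulEquiv.apply_symm_apply] at h2
    show AdQ a (Ad g φ) = ω a (σ e) • Ad g φ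
    rw [h2, ← map_smul (Ad g), ← h1, ← hAdQ, ← Module.End.mul_apply, ← Module.End.mul_apply, ← map_mul,
      ← map_mul]
    congr 2
    have h3 : ((σ (σ.symm a) : E) : G ⧸ S) = mk g * (σ.symm a : E) * (mk g)⁻¹ := MulAut.conjNormal_apply _ _
    rw [MulEquiv.apply_symm_apply] at h3
    rw [h3, inv_mul_cancel_right]
  have hb := hgrad.fixed_le hdim hp σ.toEquiv (by
      refine Equiv.ext fun a => ?_
      have h1 : ∀ (k : ℕ) (a : E), (σ.toEquiv ^ k) a = (σ ^ k) a := fun k => by
        induction k with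
        | zero => intro a; rfl
        | succ k ih => intro a; rw [pow_succ', pow_succ', Equiv.Perm.mul_apply, ih]; rfl
      rw [h1, hσp]; rfl) (Ad g) hT
  have hn := hgrad.finrank_eq hdim
  rw [Module.finrank_linearMap, ← Nat.card_eq_fintype_card] at hn
  have hfC : Nat.card (fixedBy E σ.toEquiv) = Nat.card C := rfl
  have hsq := fixed_sq_lt (ρ g) (ρ g⁻¹) (by rw [← map_mul, mul_inv_cancel, map_one])
    hg (Ad g) (fun φ => hAd g φ)
  rw [hfC, ← C.index_mul_card] at hb
  rw [← C.index_mul_card] at hn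
  set c := Module.finrank K (LinearMap.ker (ρ g - 1))
  set c' := Module.finrank K (LinearMap.ker (Ad g - 1))
  set n := Module.finrank K W
  set D := Module.finrank K (weight FE (l 1))
  set i := C.index
  set f := Nat.card C
  by_contra hc
  push Not at hc
  have h1 : 4 * p * c' ≤ p * (n * n) := by
    calc 4 * p * c' = 4 * (p * c') := by ring
      _ ≤ 4 * (D * (i * f + (p - 1) * f)) := Nat.mul_le_mul_left _ hb
      _ = D * f * (4 * (i + (p - 1))) := by ring
      _ ≤ D * f * (p * i) := Nat.mul_le_mul_left _ hbig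
      _ = p * (n * n) := by rw [hn]; ring
  have h2 : n * n ≤ 4 * (c * c) := by nlinarith
  nlinarith

end CfsgLib.Flavell
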