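import Mathlib
import Cfsg.Agent.Flavell.Core

/-!
Reduction of the half-dimension bound to irreducible modules over an algebraically closed field.
-/

set_option autoImplicit false
set_option linter.style.haveILetI false
set_option linter.unusedSectionVars false

namespace CfsgLib.Flavell

open TensorProduct

universe u v w

/-- The irreducible case over an algebraically closed field. -/
theorem bound_irreducible {G : Type u} [Group G] [Finite G] [Group.IsSolvable G] {K : Type v} [Field K]
    [IsAlgClosed K] {p : ℕ} (hp : p.Prime) (hp5 : 5 ≤ p) (g : G) (hgp : g ^ p = 1)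
    (hgen : Subgroup.normalClosure {g} = ⊤) {W : Type w} [AddCommGroup W] [Module K W]
    [FiniteDimensional K W] [Nontrivial W] (ρ : G →* Module.End K W) (hg : ρ g ≠ 1)
    (hirr : ∀ U : Submodule K W, (∀ x, ∀ u ∈ U, ρ x u ∈ U) → U = ⊥ ∨ U = ⊤) :
    2 * Module.finrank K (LinearMap.ker (ρ g - 1)) < Module.finrank K W := by
  classical
  by_cases hall : ∀ x : G, ∃ c : K, ρ x = c • 1
  · obtain ⟨c, hc⟩ := hall g
    have hc1 : c - 1 ≠ 0 := fun h => hg (by rw [hc, sub_eq_zero.1 h, one_smul])
    have hker : LinearMap.ker (ρ g - 1) = ⊥ := by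
      rw [eq_bot_iff]
      intro w hw
      rw [LinearMap.mem_ker, hc, LinearMap.sub_apply, LinearMap.smul_apply, Module.End.one_apply] at hw
      rw [Submodule.mem_bot]
      exact (smul_eq_zero.1 (show (c - 1) • w = 0 by rw [sub_smul, one_smul, hw])).resolve_left hc1
    rw [hker, finrank_bot, mul_zero]
    exact Module.finrank_pos
  push Not at hall
  obtain ⟨x₀, hx₀⟩ := hall
  set mk := QuotientGroup.mk' ρ.ker with hmk
  have hsurj : Function.Surjective mk := QuotientGroup.mk'_surjective _
  let ρ' : G ⧸ ρ.ker →* Module.End K W := QuotientGroup.lift ρ.ker ρ le_rfl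
  have hρ' : ∀ x, ρ' (mk x) = ρ x := fun x => rfl
  have hinj : Function.Injective ρ' := by
    rw [injective_iff_map_eq_one]
    intro y hy
    obtain ⟨x, rfl⟩ := hsurj y
    rw [hmk, QuotientGroup.mk'_apply, QuotientGroup.eq_one_iff, MonoidHom.mem_ker, ← hρ' x, hy]
  haveI : Group.IsSolvable (G ⧸ ρ.ker) := Group.isSolvable_of_surjective hsurj
  have hgen' : Subgroup.normalClosure {mk g} = ⊤ := by
    rw [← Set.image_singleton, ← Subgroup.map_normalClosure _ mk hsurj, hgen,
      Subgroup.map_top_of_surjective mk hsurj]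
  have hgp' : mk g ^ p = 1 := by rw [← map_pow, hgp, map_one]
  by_cases hns : ∃ A : Subgroup (G ⧸ ρ.ker), A.Normal ∧ (∀ a ∈ A, ∀ b ∈ A, a * b = b * a) ∧
      ∃ a ∈ A, ∀ c : K, ρ' a ≠ c • 1
  · obtain ⟨A, hAn, hab, hA⟩ := hns
    haveI := hAn
    exact monomial_bound hp hp5 (mk g) hgp' hgen' ρ' (fun U hU => hirr U fun x => hU (mk x)) A hab hA
  · push Not at hns
    exact primitive_bound hp hp5 (mk g) hgp' hgen' ρ' hg hinj hns ⟨mk x₀, hx₀⟩

/-- Induction over composition factors: every representation in which the sum over a set `A` of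
group elements vanishes satisfies the bound, provided the cardinality of `A` is non-zero. -/
theorem bound_of_sum_eq_zero {G : Type u} [Group G] [Finite G] [Group.IsSolvable G] {K : Type v}
    [Field K] [IsAlgClosed K] {p : ℕ} (hp : p.Prime) (hp5 : 5 ≤ p) (g : G) (hgp : g ^ p = 1)
    (hgen : Subgroup.normalClosure {g} = ⊤) (A : Finset G) (hA : (A.card : K) ≠ 0) :
    ∀ (n : ℕ) (W : Type w) [AddCommGroup W] [Module K W] [FiniteDimensional K W]
      (ρ : G →* Module.End K W), Module.finrank K W = n → 0 < n → (∑ a ∈ A, ρ a) = 0 →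
      2 * Module.finrank K (LinearMap.ker (ρ g - 1)) < n := by
  intro n
  induction n using Nat.strong_induction_on with
  | _ n ih =>
    intro W _ _ _ ρ hn hpos hsum
    classical
    haveI : Nontrivial W := Module.nontrivial_of_finrank_pos (R := K) (hn ▸ hpos)
    by_cases hirr : ∀ U : Submodule K W, (∀ x, ∀ u ∈ U, ρ x u ∈ U) → U = ⊥ ∨ U = ⊤
    · rw [← hn]
      refine bound_irreducible hp hp5 g hgp hgen ρ (fun hg => ?_) hirr
      have hall : ∀ x, ρ x = 1 := fun x => by
        have h1 : Subgroup.normalClosure {g} ≤ ρ.ker :=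
          Subgroup.normalClosure_le_normal (Set.singleton_subset_iff.2 hg)
        exact h1 (hgen ▸ Subgroup.mem_top x)
      rw [Finset.sum_congr rfl fun a _ => hall a, Finset.sum_const, ← Nat.cast_smul_eq_nsmul K,
        smul_eq_zero] at hsum
      exact hsum.elim hA one_ne_zero
    push Not at hirr
    obtain ⟨U, hU, hU0, hU1⟩ := hirr
    let σ : G →* Module.End K U :=
      { toFun := fun x => (ρ x).restrict (hU x)
        map_one' := by ext u; simp
        map_mul' := fun x y => by ext u; simp }
    let τ : G →* Module.End K (W ⧸ U) :=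
      { toFun := fun x => U.mapQ U (ρ x) (fun u hu => hU x u hu)
        map_one' := by ext u; simp
        map_mul' := fun x y => by ext u; simp }
    have hσsum : (∑ a ∈ A, σ a) = 0 := by
      ext u
      have h1 := LinearMap.congr_fun hsum (u : W)
      rw [LinearMap.sum_apply, LinearMap.zero_apply] at h1
      rw [LinearMap.sum_apply, AddSubmonoidClass.coe_finset_sum, LinearMap.zero_apply,
        Submodule.coe_zero]
      exact h1
    have hτsum : (∑ a ∈ A, τ a) = 0 := by
      refine Submodule.linearMap_qext _ (LinearMap.ext fun u => ?_)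
      have h1 := LinearMap.congr_fun hsum u
      rw [LinearMap.sum_apply, LinearMap.zero_apply] at h1
      rw [LinearMap.comp_apply, LinearMap.comp_apply, LinearMap.sum_apply, LinearMap.zero_apply]
      show ∑ a ∈ A, U.mkQ (ρ a u) = 0
      rw [← map_sum, h1, map_zero]
    have hq := U.finrank_quotient_add_finrank
    have hUpos : 0 < Module.finrank K U := Submodule.one_le_finrank_iff.2 hU0
    have hUlt : Module.finrank K U < Module.finrank K W := Submodule.finrank_lt hU1
    have i1 := ih _ (hn ▸ hUlt) U σ rfl hUpos hσsum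
    have i2 := ih _ (by omega) (W ⧸ U) τ rfl (by omega) hτsum
    -- compare kernels
    set T := ρ g - 1 with hT
    let f : LinearMap.ker T →ₗ[K] (W ⧸ U) := U.mkQ.comp (Submodule.subtype _)
    have hf := LinearMap.finrank_range_add_finrank_ker f
    have hr : LinearMap.range f ≤ LinearMap.ker (τ g - 1) := by
      rintro _ ⟨⟨x, hx⟩, rfl⟩
      rw [LinearMap.mem_ker, hT, LinearMap.sub_apply, Module.End.one_apply, sub_eq_zero] at hx
      rw [LinearMap.mem_ker, LinearMap.sub_apply, Module.End.one_apply, sub_eq_zero]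
      show U.mkQ (ρ g x) = U.mkQ x
      rw [hx]
    let f' : LinearMap.ker f →ₗ[K] LinearMap.ker (σ g - 1) :=
      LinearMap.codRestrict _ (LinearMap.codRestrict U
        ((Submodule.subtype _).comp (Submodule.subtype _)) fun z =>
          (Submodule.Quotient.mk_eq_zero U).1 (LinearMap.mem_ker.1 z.2)) fun z => by
        have h1 : T ((z : LinearMap.ker T) : W) = 0 := LinearMap.mem_ker.1 (z : LinearMap.ker T).2
        rw [LinearMap.mem_ker]
        exact Subtype.ext h1
    have hf' : Function.Injective f' := fun a b hab =>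
      Subtype.ext (Subtype.ext (congrArg (fun z : LinearMap.ker (σ g - 1) => ((z : U) : W)) hab))
    have h1 := LinearMap.finrank_le_finrank_of_injective hf'
    have h2 := Submodule.finrank_mono hr
    omega

/-- Commuting operators that are unipotent of exponent `ℓ` in characteristic `ℓ` fix a vector. -/
theorem exists_fixed {k : Type v} [Field k] {V : Type w} [AddCommGroup V] [Module k V]
    [FiniteDimensional k V] [Nontrivial V] (ℓ : ℕ) [Fact ℓ.Prime] [CharP k ℓ] {ι : Type u}
    (F : ι → Module.End k V) (hF : ∀ a b, Commute (F a) (F b)) (hpow : ∀ a, F a ^ ℓ = 1) :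
    ∃ v : V, v ≠ 0 ∧ ∀ a, F a v = v := by
  obtain ⟨U, ⟨hU0, hUi⟩, hmin⟩ := wellFounded_lt.has_min
    {U : Submodule k V | U ≠ ⊥ ∧ ∀ a, ∀ u ∈ U, F a u ∈ U}
    ⟨⊤, top_ne_bot, fun _ _ _ => Submodule.mem_top⟩
  obtain ⟨v, hv, hv0⟩ := (Submodule.ne_bot_iff _).1 hU0
  refine ⟨v, hv0, fun a => ?_⟩
  haveI : CharP (Module.End k V) ℓ :=
    charP_of_injective_algebraMap (FaithfulSMul.algebraMap_injective k (Module.End k V)) ℓ
  have hnil : (F a - 1) ^ ℓ = 0 := by
    rw [sub_pow_char_of_commute (p := ℓ) (Commute.one_right (F a)), hpow, one_pow, sub_self]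
  set L := U ⊓ LinearMap.ker (F a - 1) with hL
  have hL0 : L ≠ ⊥ := by
    intro h
    have hstep : ∀ u ∈ U, (F a - 1) u = 0 → u = 0 := fun u hu h1 => by
      have : u ∈ L := ⟨hu, h1⟩
      rwa [h, Submodule.mem_bot] at this
    have hall : ∀ (n : ℕ), ∀ u ∈ U, ((F a - 1) ^ n) u = 0 → u = 0 := by
      intro n
      induction n with
      | zero => intro u _ h1; simpa using h1
      | succ n ih =>
        intro u hu h1
        rw [pow_succ, Module.End.mul_apply] at h1
        refine hstep u hu (ih _ ?_ h1)
        rw [LinearMap.sub_apply, Module.End.one_apply]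
        exact U.sub_mem (hUi a u hu) hu
    exact hv0 (hall ℓ v hv (by rw [hnil]; rfl))
  have hLU : L = U := by
    refine eq_of_le_of_not_lt inf_le_left (hmin L ⟨hL0, fun b u hu => ⟨hUi b u hu.1, ?_⟩⟩)
    have h1 : (F a - 1) u = 0 := hu.2
    show (F a - 1) (F b u) = 0
    rw [← Module.End.mul_apply, ((hF a b).sub_left (Commute.one_left _)).eq, Module.End.mul_apply,
      h1, map_zero]
  have hv' : v ∈ L := hLU.symm ▸ hv
  have h1 : (F a - 1) v = 0 := hv'.2
  rwa [LinearMap.sub_apply, Module.End.one_apply, sub_eq_zero] at h1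

/-- An element of prime order `p ≥ 5` whose conjugates generate a solvable group fixes less than half
of a faithful irreducible module in positive characteristic. -/
theorem half_bound {G : Type u} [Group G] [Finite G] [Group.IsSolvable G] {p : ℕ} (hp : p.Prime)
    (hp5 : 5 ≤ p) (g : G) (hgp : g ^ p = 1) (hg1 : g ≠ 1)
    (hgen : Subgroup.normalClosure {g} = ⊤) {k : Type v} [Field k] (ℓ : ℕ) [Fact ℓ.Prime] [CharP k ℓ]
    {V : Type w} [AddCommGroup V] [Module k V] [FiniteDimensional k V] [Nontrivial V]
    (ρ : G →* Module.End k V) (hinj : Function.Injective ρ)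
    (hirr : ∀ U : Submodule k V, (∀ x, ∀ u ∈ U, ρ x u ∈ U) → U = ⊥ ∨ U = ⊤) :
    2 * Module.finrank k (LinearMap.ker (ρ g - 1)) < Module.finrank k V := by
  classical
  haveI := Fintype.ofFinite G
  haveI : Nontrivial G := ⟨⟨g, 1, hg1⟩⟩
  obtain ⟨M, hMn, hM1, -, hMc, -, q, hq, hexp, hMq⟩ :=
    CfsgLib.Solvable.exists_normal_elementary_le (G := G) top_ne_bot inferInstance
  haveI := hMc
  have hcomm : ∀ a b : M, Commute (ρ a) (ρ b) := fun a b => by
    show ρ a * ρ b = ρ b * ρ a
    rw [← map_mul, ← map_mul, setLike_mul_comm a.2 b.2]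
  -- the fixed space of `M` is zero
  have hfix : ∀ v : V, (∀ a ∈ M, ρ a v = v) → v = 0 := by
    let U : Submodule k V :=
      { carrier := {v | ∀ a ∈ M, ρ a v = v}
        zero_mem' := fun a _ => map_zero _
        add_mem' := fun {x y} hx hy a ha => by rw [map_add, hx a ha, hy a ha]
        smul_mem' := fun c x hx a ha => by rw [map_smul, hx a ha] }
    have hU : ∀ x, ∀ u ∈ U, ρ x u ∈ U := fun x u hu a ha => by
      have h1 := hu _ (hMn.conj_mem a ha x⁻¹)
      calc ρ a (ρ x u) = ρ (x * (x⁻¹ * a * x⁻¹⁻¹)) u := by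
            rw [← Module.End.mul_apply, ← map_mul]; congr 2; group
        _ = ρ x u := by rw [map_mul, Module.End.mul_apply, h1]
    rcases hirr U hU with h | h
    · intro v hv
      have : v ∈ U := hv
      rwa [h, Submodule.mem_bot] at this
    · exfalso
      refine hM1 ((Subgroup.eq_bot_iff_forall _).2 fun a ha => hinj ?_)
      rw [map_one]
      exact LinearMap.ext fun v => (h ▸ Submodule.mem_top : v ∈ U) a ha
  have hqk : (q : k) ≠ 0 := by
    intro h0
    obtain rfl : ℓ = q := by
      have h1 := (CharP.cast_eq_zero_iff k ℓ q).1 h0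
      exact (Nat.prime_dvd_prime_iff_eq (Fact.out : ℓ.Prime) hq).1 h1
    obtain ⟨v, hv0, hv⟩ := exists_fixed ℓ (fun a : M => ρ a) hcomm
      fun a => by rw [← map_pow, hexp a a.2, map_one]
    exact hv0 (hfix v fun a ha => hv ⟨a, ha⟩)
  let A : Finset G := Finset.univ.filter (· ∈ M)
  have hsum : (∑ a ∈ A, ρ a) = 0 := by
    refine LinearMap.ext fun v => hfix _ fun b hb => ?_
    rw [LinearMap.sum_apply, map_sum]
    refine Finset.sum_equiv (Equiv.mulLeft b) (fun a => ?_) fun a _ => ?_
    · simp [A, M.mul_mem_cancel_left hb]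
    · rw [Equiv.coe_mulLeft, map_mul, Module.End.mul_apply]
  -- extend the field
  let K := AlgebraicClosure k
  let ρK : G →* Module.End K (K ⊗[k] V) :=
    { toFun := fun x => (ρ x).baseChange K
      map_one' := by rw [map_one]; exact LinearMap.baseChange_one k V
      map_mul' := fun x y => by rw [map_mul]; exact LinearMap.baseChange_mul _ _ }
  have hsumK : (∑ a ∈ A, ρK a) = 0 := by
    have h1 := congrArg (LinearMap.baseChangeHom k K V V) hsum
    rw [map_sum, map_zero] at h1
    exact h1
  have hcard : (A.card : K) ≠ 0 := by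
    haveI := Fact.mk hq
    obtain ⟨e, he⟩ := IsPGroup.iff_card.1 hMq
    have hA : A.card = Nat.card M := by
      rw [Nat.card_eq_fintype_card, Fintype.card_subtype]
    rw [hA, he, Nat.cast_pow]
    refine pow_ne_zero _ ?_
    rw [← map_natCast (algebraMap k K) q]
    exact (map_ne_zero _).2 hqk
  have hVpos : 0 < Module.finrank k V := Module.finrank_pos
  have hb := bound_of_sum_eq_zero hp hp5 g hgp hgen A hcard (Module.finrank k V) (K ⊗[k] V) ρK
    Module.finrank_baseChange hVpos hsumK
  refine lt_of_le_of_lt (Nat.mul_le_mul_left _ ?_) hb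
  set C := LinearMap.ker (ρ g - 1) with hC
  let j : K ⊗[k] C →ₗ[K] LinearMap.ker (ρK g - 1) :=
    (C.subtype.baseChange K).codRestrict _ fun z => by
      rw [LinearMap.mem_ker]
      induction z with
      | zero => simp
      | tmul c v =>
        have h1 : (ρ g - 1) (v : V) = 0 := LinearMap.mem_ker.1 v.2
        rw [LinearMap.sub_apply, Module.End.one_apply, sub_eq_zero] at h1
        rw [LinearMap.sub_apply, Module.End.one_apply, LinearMap.baseChange_tmul, sub_eq_zero]
        show (ρ g).baseChange K (c ⊗ₜ[k] (v : V)) = c ⊗ₜ[k] (v : V)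
        rw [LinearMap.baseChange_tmul, h1]
      | add a b ha hb => rw [map_add, map_add, ha, hb, add_zero]
  have hj : Function.Injective j := fun a b hab => by
    have h1 : (C.subtype.baseChange K) a = (C.subtype.baseChange K) b := congrArg Subtype.val hab
    exact Module.Flat.lTensor_preserves_injective_linearMap (M := K) C.subtype C.subtype_injective h1
  have h2 := LinearMap.finrank_le_finrank_of_injective hj
  rwa [Module.finrank_baseChange] at h2

end CfsgLib.Flavell
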