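import Cfsg.Agent.Flavell.Main
import Cfsg.Agent.Solvable.Glauberman
import Cfsg.Agent.Solvable.CoprimeAbelian
import Cfsg.Agent.FGSA.Nilpotent
import Cfsg.Agent.Invol.Dihedral
import Mathlib.GroupTheory.Frattini
import Mathlib.Algebra.Module.ZMod
import Cfsg.Agent.ZJ.ConjModule

/-!
# Maximal solvable subgroups generated by two conjugates of a subgroup of prime order

If `A = ⟨P, P^a⟩` is maximal among the solvable subgroups of that form, with `|P| = p > 3`, then
`F(A)V` is nilpotent for every nilpotent subgroup `V` normalised by `A`.  Modulo the Frattini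
subgroup of a minimal counterexample, all the subgroups `⟨P, P^{va}⟩` are complements of `V`,
hence conjugate to `A`, so the fixed spaces of two conjugates of `P` cover `V`, against the half
dimension bound.
-/

set_option autoImplicit false
set_option linter.style.haveILetI false
set_option linter.unusedSectionVars false

namespace CfsgLib.Flavell

open Subgroup Pointwise
open scoped commutatorElement

theorem commutator_le_frattini_of_nilpotent {G : Type*} [Group G] [Finite G] [Group.IsNilpotent G] :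
    commutator G ≤ frattini G := by
  rw [frattini, Order.radical]
  refine le_iInf₂ fun M hM => ?_
  haveI : M.Normal :=
    NormalizerCondition.normal_of_coatom M Group.normalizerCondition_of_isNilpotent hM
  obtain ⟨x, -, hx⟩ := SetLike.exists_of_lt (lt_top_iff_ne_top.2 hM.1)
  have htop : zpowers (QuotientGroup.mk' M x) = ⊤ := by
    refine comap_injective (QuotientGroup.mk'_surjective M) ?_
    rw [comap_top]
    refine hM.2 _ (lt_of_le_of_ne ?_ fun h => ?_)
    · exact fun m hm => by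
        rw [mem_comap, show QuotientGroup.mk' M m = 1 from (QuotientGroup.eq_one_iff m).2 hm]
        exact one_mem _
    · exact hx (h.symm.le (mem_comap.2 (mem_zpowers _)))
  haveI : IsCyclic (G ⧸ M) := isCyclic_iff_exists_zpowers_eq_top.2 ⟨_, htop⟩
  exact Subgroup.Normal.quotient_commutative_iff_commutator_le.1 inferInstance

theorem pow_mem_frattini_of_isPGroup {G : Type*} [Group G] [Finite G] {p : ℕ} [Fact p.Prime]
    (hG : IsPGroup p G) (g : G) : g ^ p ∈ frattini G := by
  rw [frattini, Order.radical]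
  simp only [Subgroup.mem_iInf]
  intro M hM
  haveI : Group.IsNilpotent G := hG.isNilpotent
  haveI : M.Normal :=
    NormalizerCondition.normal_of_coatom M Group.normalizerCondition_of_isNilpotent hM
  have htop : ∀ z : G ⧸ M, z ≠ 1 → zpowers z = ⊤ := by
    intro z hz
    refine comap_injective (QuotientGroup.mk'_surjective M) ?_
    rw [comap_top]
    refine hM.2 _ (lt_of_le_of_ne ?_ fun h => ?_)
    · exact fun m hm => by
        rw [mem_comap, show QuotientGroup.mk' M m = 1 from (QuotientGroup.eq_one_iff m).2 hm]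
        exact one_mem _
    · obtain ⟨w, rfl⟩ := QuotientGroup.mk'_surjective M z
      exact hz ((QuotientGroup.eq_one_iff w).2 (h.symm.le (mem_comap.2 (mem_zpowers _))))
  have hdvd : p ∣ Nat.card (G ⧸ M) := (hG.to_quotient M).card_eq_or_dvd.resolve_left fun h => by
    rw [← index_eq_card, index_eq_one] at h
    exact hM.1 h
  obtain ⟨z, hz⟩ := exists_prime_orderOf_dvd_card' p hdvd
  have hz1 : z ≠ 1 := fun h => by
    rw [h, orderOf_one] at hz
    exact (Fact.out : p.Prime).one_lt.ne hz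
  refine (QuotientGroup.eq_one_iff _).1 ?_
  show QuotientGroup.mk' M (g ^ p) = 1
  have hmem : QuotientGroup.mk' M g ∈ zpowers z := htop z hz1 ▸ mem_top _
  rw [map_pow, ← orderOf_dvd_iff_pow_eq_one, ← hz]
  exact orderOf_dvd_of_mem_zpowers hmem

universe u

variable {G : Type u} [Group G] [Finite G]

/-- The half dimension bound for a representation that need not be faithful. -/
theorem half_bound_hom {A : Type u} [Group A] [Finite A] [Group.IsSolvable A] {p : ℕ} (hp : p.Prime)
    (hp5 : 5 ≤ p) (g : A) (hgp : g ^ p = 1) (hgen : normalClosure ({g} : Set A) = ⊤)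
    {k : Type*} [Field k] (ℓ : ℕ) [Fact ℓ.Prime] [CharP k ℓ] {M : Type*} [AddCommGroup M] [Module k M]
    [FiniteDimensional k M] [Nontrivial M] (act : A →* Module.End k M) (hg : act g ≠ 1)
    (hirr : ∀ U : Submodule k M, (∀ x, ∀ u ∈ U, act x u ∈ U) → U = ⊥ ∨ U = ⊤) :
    2 * Module.finrank k (LinearMap.ker (act g - 1)) < Module.finrank k M := by
  set mk := QuotientGroup.mk' act.toHomUnits.ker
  have hsurj : Function.Surjective mk := QuotientGroup.mk'_surjective _
  let ρ : A ⧸ act.toHomUnits.ker →* Module.End k M :=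
    (Units.coeHom _).comp (QuotientGroup.kerLift act.toHomUnits)
  have hρ : Function.Injective ρ := Units.val_injective.comp (QuotientGroup.kerLift_injective _)
  have hv : ∀ x, ρ (mk x) = act x := fun x => rfl
  haveI : Group.IsSolvable (A ⧸ act.toHomUnits.ker) := Group.isSolvable_of_surjective hsurj
  have hgenq : normalClosure ({mk g} : Set (A ⧸ act.toHomUnits.ker)) = ⊤ := by
    rw [← Set.image_singleton, ← Subgroup.map_normalClosure _ _ hsurj, hgen,
      Subgroup.map_top_of_surjective _ hsurj]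
  rw [← hv g]
  refine half_bound hp hp5 (mk g) (by rw [← map_pow, hgp, map_one]) (fun h => hg ?_) hgenq ℓ ρ hρ
    fun U hU => hirr U fun x => hU (mk x)
  rw [← hv g, h, map_one]

/-- Subgroups normalising each other's complements: the final counting contradiction. -/
theorem covering_false {p q : ℕ} [Fact p.Prime] [Fact q.Prime] (hp : 5 ≤ p) (A V : Subgroup G)
    [V.Normal] [IsMulCommutative V] (hV : V ≠ ⊥) (hsup : A ⊔ V = ⊤)
    (hA : Group.IsSolvable A) (hexp : ∀ v ∈ V, v ^ q = 1)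
    (hmin : ∀ K : Subgroup G, K.Normal → K ≤ V → K = ⊥ ∨ K = V)
    {g a : G} (hgA : g ∈ A) (hgp : g ^ p = 1) (ha : a ∈ A)
    (hgen : A = zpowers g ⊔ zpowers (a * g * a⁻¹)) (hne : ∃ x ∈ A, x ∉ centralizer (V : Set G))
    (hcov : ∀ v ∈ V, ∃ c ∈ V, ∃ d ∈ V, Commute c g ∧ Commute d (a * g * a⁻¹) ∧ v = c * d) :
    False := by
  classical
  have hEA : Cfsg.IsElementaryAbelian q V := ⟨inferInstance, hexp⟩
  have hAN : A ≤ normalizer (V : Set G) := by rw [normalizer_eq_top]; exact le_top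
  let act : A →* Module.End (ZMod q) (ZJ.ElabMod V hEA) := (ZJ.conjEnd hEA).comp (inclusion hAN)
  have hact : ∀ (x : A) (v : ZJ.ElabMod V hEA),
      ((ZJ.ofVec hEA (act x v) : V) : G) = (x : G) * (ZJ.ofVec hEA v : G) * (x : G)⁻¹ := fun x v => rfl
  haveI := hA
  have hgen' : normalClosure ({(⟨g, hgA⟩ : A)} : Set A) = ⊤ := by
    rw [eq_top_iff]
    intro x _
    set N := normalClosure ({(⟨g, hgA⟩ : A)} : Set A)
    have hle : A ≤ N.map A.subtype := by
      refine hgen.le.trans (sup_le (zpowers_le.2 ?_) (zpowers_le.2 ?_))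
      · exact ⟨⟨g, hgA⟩, subset_normalClosure rfl, rfl⟩
      · have hgN : (⟨g, hgA⟩ : A) ∈ N := subset_normalClosure (Set.mem_singleton _)
        exact ⟨(⟨a, ha⟩ : A) * ⟨g, hgA⟩ * (⟨a, ha⟩ : A)⁻¹,
          (normalClosure_normal : N.Normal).conj_mem _ hgN _, rfl⟩
    obtain ⟨y, hy, he⟩ := hle x.2
    rwa [← Subtype.ext he]
  have hg1 : act ⟨g, hgA⟩ ≠ 1 := by
    intro h
    obtain ⟨x, hx, hxc⟩ := hne
    have hk : (⊤ : Subgroup A) ≤ act.toHomUnits.ker :=
      hgen' ▸ normalClosure_le_normal (Set.singleton_subset_iff.2 (Units.ext h))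
    refine hxc (mem_centralizer_iff.2 fun v hv => ?_)
    have h1 := hact ⟨x, hx⟩ (ZJ.toVec hEA ⟨v, hv⟩)
    rw [show act ⟨x, hx⟩ = 1 from congrArg Units.val (MonoidHom.mem_ker.1 (hk (mem_top (⟨x, hx⟩ : A))))] at h1
    exact eq_mul_inv_iff_mul_eq.1 h1
  haveI : Nontrivial (ZJ.ElabMod V hEA) := by
    haveI := (nontrivial_iff_ne_bot V).2 hV
    exact inferInstanceAs (Nontrivial V)
  have hirr : ∀ U : Submodule (ZMod q) (ZJ.ElabMod V hEA), (∀ x, ∀ u ∈ U, act x u ∈ U) → U = ⊥ ∨ U = ⊤ := by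
    intro U hU
    let K : Subgroup G := (AddSubgroup.toSubgroup' U.toAddSubgroup).map V.subtype
    have hmem : ∀ v : ZJ.ElabMod V hEA, ((ZJ.ofVec hEA v) : G) ∈ K ↔ v ∈ U := fun v =>
      ⟨fun ⟨w, hw, he⟩ => by
        have e : (ZJ.ofVec hEA v) = w := (Subtype.ext he).symm
        show ZJ.toVec hEA (ZJ.ofVec hEA v) ∈ U
        rw [e]; exact hw,
       fun h => ⟨(ZJ.ofVec hEA v), h, rfl⟩⟩
    have hKn : K.Normal := by
      refine normalizer_eq_top_iff.1 (top_le_iff.1 ?_)
      rw [← hsup]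
      refine sup_le (fun x hx => ?_) ?_
      · have hxK : ∀ y ∈ A, ∀ k ∈ K, y * k * y⁻¹ ∈ K := by
          rintro y hy _ ⟨w, hw, rfl⟩
          have := (hmem (act ⟨y, hy⟩ (ZJ.toVec hEA w))).2 (hU ⟨y, hy⟩ _ hw)
          rwa [hact] at this
        refine mem_normalizer_iff.2 fun k => ⟨hxK x hx k, fun h => ?_⟩
        have := hxK x⁻¹ (inv_mem hx) _ h
        simpa [mul_assoc] using this
      · exact (le_centralizer_iff.1 ((map_subtype_le _).trans (le_centralizer V))).trans
          (centralizer_le_normalizer _)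
    rcases hmin K hKn (map_subtype_le _) with h | h
    · refine Or.inl ((Submodule.eq_bot_iff _).2 fun v hv => ?_)
      have := (hmem v).2 hv
      rw [h, mem_bot, OneMemClass.coe_eq_one] at this
      exact ZJ.ofVec_injective hEA this
    · exact Or.inr (eq_top_iff.2 fun v _ => (hmem v).1 (h.symm ▸ (ZJ.ofVec hEA v).2))
  have hb := half_bound_hom (Fact.out : p.Prime) hp (⟨g, hgA⟩ : A) (Subtype.ext hgp) hgen' q act hg1 hirr
  -- count
  set C := LinearMap.ker (act ⟨g, hgA⟩ - 1)
  have hC : ∀ v : ZJ.ElabMod V hEA, v ∈ C ↔ Commute ((ZJ.ofVec hEA v) : G) g := by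
    intro v
    rw [LinearMap.mem_ker, LinearMap.sub_apply, Module.End.one_apply, sub_eq_zero]
    constructor
    · intro h
      have h1 := hact ⟨g, hgA⟩ v
      rw [h] at h1
      exact eq_mul_inv_iff_mul_eq.1 h1
    · intro h
      refine ZJ.ofVec_injective hEA (Subtype.ext ((hact ⟨g, hgA⟩ v).trans ?_))
      show g * ((ZJ.ofVec hEA v) : G) * g⁻¹ = _
      rw [← h.eq, mul_assoc, mul_inv_cancel, mul_one]
  let f : C × C → ZJ.ElabMod V hEA := fun x => (x.1 : ZJ.ElabMod V hEA) + act ⟨a, ha⟩ (x.2 : ZJ.ElabMod V hEA)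
  have hf : Function.Surjective f := by
    intro v
    obtain ⟨c, hc, d, hd, hcg, hdg, he⟩ := hcov _ (ZJ.ofVec hEA v).2
    set d' : ZJ.ElabMod V hEA := act ⟨a, ha⟩⁻¹ (ZJ.toVec hEA ⟨d, hd⟩) with hd'
    have hd'C : d' ∈ C := by
      rw [hC]
      have : ((ZJ.ofVec hEA d') : G) = a⁻¹ * d * a⁻¹⁻¹ := hact _ _
      rw [this]
      have h2 : Commute (a⁻¹ * d * a⁻¹⁻¹) (a⁻¹ * (a * g * a⁻¹) * a⁻¹⁻¹) :=
        hdg.map (MulAut.conj a⁻¹).toMonoidHom
      rwa [show a⁻¹ * (a * g * a⁻¹) * a⁻¹⁻¹ = g by group] at h2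
    refine ⟨(⟨ZJ.toVec hEA ⟨c, hc⟩, (hC _).2 hcg⟩, ⟨d', hd'C⟩), ?_⟩
    refine ZJ.ofVec_injective hEA (Subtype.ext ?_)
    show c * ((ZJ.ofVec hEA ((act ⟨a, ha⟩) d') : V) : G) = _
    rw [hact, hd', hact]
    show c * (a * ((a⁻¹ : G) * d * a⁻¹⁻¹) * a⁻¹) = _
    rw [he]
    group
  have h1 := Nat.card_le_card_of_surjective f hf
  rw [Nat.card_prod, Module.natCard_eq_pow_finrank (K := ZMod q) (V := C),
    Module.natCard_eq_pow_finrank (K := ZMod q) (V := ZJ.ElabMod V hEA), Nat.card_zmod, ← pow_add] at h1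
  have h2 := (Nat.pow_le_pow_iff_right (Fact.out : q.Prime).one_lt).1 h1
  omega

set_option maxHeartbeats 1000000 in
/-- Coprime normal subgroups of a maximal two-conjugate solvable subgroup centralise the
`q`-groups it normalises. -/
theorem commute_qGroup {p : ℕ} [Fact p.Prime] (hp : 3 < p) (P : Subgroup G) (hP : Nat.card P = p)
    (A : Subgroup G) (hAs : Group.IsSolvable A) {a : G} (ha : a ∈ A)
    (hAP : A = P ⊔ P.map (MulAut.conj a).toMonoidHom)
    (hmax : ∀ B : Subgroup G, A ≤ B → Group.IsSolvable B →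
      (∃ b ∈ B, B = P ⊔ P.map (MulAut.conj b).toMonoidHom) → B = A)
    (R : Subgroup G) (hRA : R ≤ A) (hAR : A ≤ normalizer (R : Set G))
    {q : ℕ} [Fact q.Prime] (V : Subgroup G) :
    A ≤ normalizer (V : Set G) → IsPGroup q V → (Nat.card R).Coprime (Nat.card V) → ⁅V, R⁆ = ⊥ := by
  induction V using WellFoundedLT.induction with | _ V ih => ?_
  intro hAV hVq hcop
  by_contra hne
  have hRV : R ≤ normalizer (V : Set G) := hRA.trans hAV
  have hVs : Group.IsSolvable V := by
    haveI := hVq.isNilpotent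
    exact IsNilpotent.to_isSolvable
  -- `V = [V, R]`
  have hle : ⁅V, R⁆ ≤ V := le_normalizer_iff_commutator_le_left.1 hRV
  have hVR : ⁅V, R⁆ = V := by
    by_contra h
    have hinv : A ≤ normalizer ((⁅V, R⁆ : Subgroup G) : Set G) := fun x hx =>
      mem_normalizer_iff_map_conj_eq.2 (by
        rw [Subgroup.map_commutator, mem_normalizer_iff_map_conj_eq.1 (hAV hx),
          mem_normalizer_iff_map_conj_eq.1 (hAR hx)])
    have := ih _ (lt_of_le_of_ne hle h) hinv (hVq.to_le hle)
      (hcop.coprime_dvd_right (card_dvd_of_le hle))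
    rw [CoprimeAct.commutator_commutator hRV hcop (Or.inr hVs)] at this
    exact hne this
  -- `V` is not inside `A`
  have hVA : ¬ V ≤ A := by
    intro h
    refine hne (eq_bot_iff.2 ?_)
    rw [← inf_eq_bot_of_coprime hcop]
    exact le_inf (commutator_le.2 fun v hv r hr => by
      rw [commutatorElement_def]
      exact mul_mem ((mem_normalizer_iff.1 (hAR (h hv)) r).1 hr) (inv_mem hr)) hle
  set H := A ⊔ V
  have hAH : A ≤ H := le_sup_left
  have hVH : V ≤ H := le_sup_right
  have hHV : H ≤ normalizer (V : Set G) := sup_le hAV le_normalizer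
  set Φ := (frattini V).map V.subtype
  have hΦV : Φ ≤ V := map_subtype_le _
  have hHΦ : H ≤ normalizer (Φ : Set G) := by
    intro x hx
    refine mem_normalizer_iff_map_conj_eq.2 ?_
    have hxV := mem_normalizer_iff_map_conj_eq.1 (hHV hx)
    let e : V ≃* V := (V.equivMapOfInjective (MulAut.conj x).toMonoidHom (MulAut.conj x).injective).trans
      (MulEquiv.subgroupCongr hxV)
    have he : (frattini V).map e.toMonoidHom = frattini V :=
      characteristic_iff_map_eq.1 inferInstance e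
    conv_rhs => rw [show Φ = ((frattini V).map e.toMonoidHom).map V.subtype by rw [he]]
    rw [Subgroup.map_map, Subgroup.map_map]
    rfl
  haveI hΦn : (Φ.subgroupOf H).Normal :=
    (normal_subgroupOf_iff_le_normalizer (hΦV.trans hVH)).2 hHΦ
  set π := QuotientGroup.mk' (Φ.subgroupOf H)
  have hπs : Function.Surjective π := QuotientGroup.mk'_surjective _
  have hπ1 : ∀ x : H, π x = 1 ↔ (x : G) ∈ Φ := fun x => QuotientGroup.eq_one_iff x
  let A' := (A.subgroupOf H).map π
  let V' := (V.subgroupOf H).map π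
  let R' := (R.subgroupOf H).map π
  haveI : V'.Normal :=
    ((normal_subgroupOf_iff_le_normalizer hVH).2 hHV).map π hπs
  haveI hVn : Group.IsNilpotent V := hVq.isNilpotent
  haveI hV'c : IsMulCommutative V' := ⟨⟨by
    rintro ⟨_, x, hx, rfl⟩ ⟨_, y, hy, rfl⟩
    refine Subtype.ext ?_
    show π x * π y = π y * π x
    rw [← commutatorElement_eq_one_iff_mul_comm, ← map_commutatorElement, hπ1]
    exact ⟨⁅(⟨x, hx⟩ : V), ⟨y, hy⟩⁆, commutator_le_frattini_of_nilpotent
      (commutator_mem_commutator (mem_top _) (mem_top _)), rfl⟩⟩⟩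
  have hsup' : A' ⊔ V' = ⊤ := by
    rw [← Subgroup.map_sup, ← Subgroup.map_top_of_surjective π hπs]
    congr 1
    rw [← subgroupOf_sup hAH hVH, subgroupOf_self]
  have hV'q : IsPGroup q V' := (hVq.comap_of_injective H.subtype H.subtype_injective).map π
  -- subgroups between `Φ` and `V`
  have hR'c : (Nat.card R').Coprime (Nat.card V') := by
    refine Nat.Coprime.coprime_dvd_left ?_ (Nat.Coprime.coprime_dvd_right ?_ hcop)
    · exact (card_map_dvd _ π).trans (Nat.card_congr (subgroupOfEquivOfLe (hRA.trans hAH)).toEquiv).dvd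
    · exact (card_map_dvd _ π).trans (Nat.card_congr (subgroupOfEquivOfLe hVH).toEquiv).dvd
  have hR'V : R' ≤ normalizer (V' : Set (↥H ⧸ Φ.subgroupOf H)) := by
    rw [normalizer_eq_top]
    exact le_top
  have hV'R : ⁅V', R'⁆ = V' := by
    rw [← Subgroup.map_commutator]
    congr 1
    refine map_injective H.subtype_injective ?_
    rw [Subgroup.map_commutator, map_subgroupOf_eq_of_le hVH, map_subgroupOf_eq_of_le (hRA.trans hAH),
      hVR]
  have hfix : V' ⊓ centralizer (R' : Set (↥H ⧸ Φ.subgroupOf H)) = ⊥ := by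
    have := CoprimeAct.fixed_inf_commutator_abelian hR'V hR'c
    rwa [hV'R, inf_eq_left.2 inf_le_left] at this
  have hlift : ∀ K : Subgroup (↥H ⧸ Φ.subgroupOf H), V' ≤ K → V ≤ (K.comap π).map H.subtype :=
    fun K hK v hv => ⟨⟨v, hVH hv⟩, hK ⟨⟨v, hVH hv⟩, hv, rfl⟩, rfl⟩
  have hV'bot : V' ≠ ⊥ := by
    intro h
    have h1 : (⊤ : Subgroup V) ≤ frattini V := fun v _ => by
      have : π ⟨v, hVH v.2⟩ ∈ V' := ⟨⟨v, hVH v.2⟩, v.2, rfl⟩
      rw [h, mem_bot, hπ1] at this
      obtain ⟨w, hw, he⟩ := this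
      rwa [← Subtype.ext (show (w : G) = v from he)]
    have h2 : (⊥ : Subgroup V) = ⊤ := frattini_nongenerating (by simpa using h1)
    haveI : Nontrivial V := (nontrivial_iff_ne_bot V).2 fun hb => hne (eq_bot_iff.2 (hle.trans hb.le))
    exact bot_ne_top h2
  have hmin' : ∀ K : Subgroup (↥H ⧸ Φ.subgroupOf H), K.Normal → K ≤ V' → K = ⊥ ∨ K = V' := by
    intro K hKn hKV
    haveI := hKn
    refine or_iff_not_imp_right.2 fun hKne => ?_
    set X := (K.comap π).map H.subtype
    have hXV : X ≤ V := by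
      rintro _ ⟨x, hx, rfl⟩
      obtain ⟨v, hv, he⟩ := hKV hx
      have h1 : ((v⁻¹ * x : H) : G) ∈ V := hΦV ((hπ1 _).1 (by rw [map_mul, map_inv, he, inv_mul_cancel]))
      have := mul_mem (show (v : G) ∈ V from hv) h1
      rwa [Subgroup.coe_mul, InvMemClass.coe_inv, mul_inv_cancel_left] at this
    have hXne : X ≠ V := fun h => hKne (le_antisymm hKV (by
      rintro _ ⟨v, hv, rfl⟩
      obtain ⟨x, hx, he⟩ := h.symm.le (show (v : G) ∈ V from hv)
      rw [← Subtype.ext (show (x : G) = v from he)]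
      exact hx))
    have hXn : A ≤ normalizer (X : Set G) := by
      refine hAH.trans ?_
      haveI : (K.comap π).Normal := hKn.comap π
      refine le_trans ?_ (le_normalizer_map H.subtype)
      rw [normalizer_eq_top, ← MonoidHom.range_eq_map, range_subtype]
    have hc := ih X (lt_of_le_of_ne hXV hXne) hXn (hVq.to_le hXV)
      (hcop.coprime_dvd_right (card_dvd_of_le hXV))
    rw [eq_bot_iff, ← hfix]
    refine le_inf hKV ?_
    rw [← commutator_eq_bot_iff_le_centralizer, eq_bot_iff, commutator_le]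
    rintro k hk _ ⟨r, hr, rfl⟩
    obtain ⟨x, rfl⟩ := hπs k
    rw [mem_bot, ← map_commutatorElement, hπ1]
    have h1 : ((⁅x, r⁆ : H) : G) ∈ ⁅X, R⁆ :=
      commutator_mem_commutator (mem_map_of_mem _ (show x ∈ K.comap π from hk)) hr
    rw [hc, mem_bot] at h1
    rw [h1]
    exact one_mem _
  have hexp : ∀ x ∈ V', x ^ q = 1 := by
    intro x hx
    obtain ⟨x, hxV, rfl⟩ := hx
    rw [← map_pow, hπ1]
    exact ⟨(⟨x, hxV⟩ : V) ^ q, pow_mem_frattini_of_isPGroup hVq _, rfl⟩
  -- the generators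
  obtain ⟨⟨g, hgP⟩, hgo⟩ := exists_prime_orderOf_dvd_card' (G := P) p (by rw [hP])
  rw [Subgroup.orderOf_mk] at hgo
  have hPg : P = zpowers g :=
    (eq_of_le_of_card_ge (zpowers_le.2 hgP) (by rw [hP, Nat.card_zpowers, hgo])).symm
  have hmapP : ∀ x : G, P.map (MulAut.conj x).toMonoidHom = zpowers (x * g * x⁻¹) := fun x => by
    rw [hPg, MonoidHom.map_zpowers]
    rfl
  have hgA : g ∈ A := hAP.symm.le (mem_sup_left hgP)
  have hA'gen : A' = zpowers (π ⟨g, hAH hgA⟩) ⊔
      zpowers (π ⟨a, hAH ha⟩ * π ⟨g, hAH hgA⟩ * (π ⟨a, hAH ha⟩)⁻¹) := by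
    have h1 : A.subgroupOf H = zpowers (⟨g, hAH hgA⟩ : H) ⊔
        zpowers ((⟨a, hAH ha⟩ : H) * ⟨g, hAH hgA⟩ * (⟨a, hAH ha⟩ : H)⁻¹) := by
      refine map_injective H.subtype_injective ?_
      rw [map_subgroupOf_eq_of_le hAH, Subgroup.map_sup, MonoidHom.map_zpowers, MonoidHom.map_zpowers,
        hAP, hmapP a, hPg]
      rfl
    show (A.subgroupOf H).map π = _
    rw [h1, Subgroup.map_sup, MonoidHom.map_zpowers, MonoidHom.map_zpowers, map_mul, map_mul, map_inv]
  -- every such subgroup meets `V'` trivially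
  have hmeet : ∀ v : H, (v : G) ∈ V →
      ((zpowers (π ⟨g, hAH hgA⟩) ⊔ zpowers (π v * (π ⟨a, hAH ha⟩ * π ⟨g, hAH hgA⟩ *
        (π ⟨a, hAH ha⟩)⁻¹) * (π v)⁻¹)) ⊓ V') = ⊥ := by
    intro v hv
    set B₀ : Subgroup H := zpowers (⟨g, hAH hgA⟩ : H) ⊔
      zpowers (v * ((⟨a, hAH ha⟩ : H) * ⟨g, hAH hgA⟩ * (⟨a, hAH ha⟩ : H)⁻¹) * v⁻¹) with hB₀
    rw [show zpowers (π ⟨g, hAH hgA⟩) ⊔ zpowers (π v * (π ⟨a, hAH ha⟩ * π ⟨g, hAH hgA⟩ *
        (π ⟨a, hAH ha⟩)⁻¹) * (π v)⁻¹) = B₀.map π by
      rw [hB₀, Subgroup.map_sup, MonoidHom.map_zpowers, MonoidHom.map_zpowers]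
      simp only [map_mul, map_inv]]
    set B' := B₀.map π
    have hBV : B' ⊔ V' = ⊤ := by
      refine top_le_iff.1 (hsup'.ge.trans (sup_le ?_ le_sup_right))
      rw [hA'gen]
      refine sup_le (zpowers_le.2 (mem_sup_left (mem_map_of_mem π (mem_sup_left (mem_zpowers _)))))
        (zpowers_le.2 ?_)
      have h1 : π v ∈ B' ⊔ V' := mem_sup_right ⟨v, hv, rfl⟩
      have h2 := mul_mem (mul_mem (inv_mem h1)
        (mem_sup_left (mem_map_of_mem π (mem_sup_right (mem_zpowers _)) :
          π (v * ((⟨a, hAH ha⟩ : H) * ⟨g, hAH hgA⟩ * (⟨a, hAH ha⟩ : H)⁻¹) * v⁻¹) ∈ B'))) h1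
      simp only [map_mul, map_inv] at h2
      convert h2 using 1
      group
    have hIn : (B' ⊓ V').Normal := by
      refine normalizer_eq_top_iff.1 (top_le_iff.1 (hBV.ge.trans (sup_le ?_ ?_)))
      · exact fun x hx => inf_normalizer_le_normalizer_inf (mem_inf.2
          ⟨le_normalizer hx, by rw [normalizer_eq_top]; exact mem_top _⟩)
      · exact (le_centralizer_iff.1 (inf_le_right.trans (le_centralizer V'))).trans
          (centralizer_le_normalizer _)
    refine (hmin' _ hIn inf_le_right).resolve_right fun h => ?_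
    -- otherwise `B₀` contains `V`
    have hVB : V'≤ B' := h.ge.trans inf_le_left
    set B := B₀.map H.subtype
    have htop : (B.subgroupOf V) ⊔ frattini V = ⊤ := by
      refine eq_top_iff.2 fun w _ => ?_
      obtain ⟨b, hb, he⟩ := hVB (⟨⟨w, hVH w.2⟩, w.2, rfl⟩ : π ⟨w, hVH w.2⟩ ∈ V')
      have h1 : ((b⁻¹ * ⟨w, hVH w.2⟩ : H) : G) ∈ Φ :=
        (hπ1 _).1 (by rw [map_mul, map_inv, he, inv_mul_cancel])
      obtain ⟨f, hf, hfe⟩ := h1
      have hbV : (b : G) ∈ V := by
        have h2 : (b : G) = w * (f : G)⁻¹ := by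
          rw [show (f : G) = (b : G)⁻¹ * w from hfe]; group
        rw [h2]
        exact mul_mem w.2 (inv_mem f.2)
      have : w = (⟨b, hbV⟩ : V) * f := Subtype.ext (by
        show (w : G) = b * (f : G)
        rw [show (f : G) = (b : G)⁻¹ * w from hfe, mul_inv_cancel_left])
      rw [this]
      exact mul_mem (mem_sup_left (show (⟨b, hbV⟩ : V) ∈ B.subgroupOf V from
        mem_map_of_mem _ hb)) (mem_sup_right hf)
    have hVleB : V ≤ B := subgroupOf_eq_top.1 (frattini_nongenerating htop)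
    have hBeq : B = P ⊔ P.map (MulAut.conj ((v : G) * a)).toMonoidHom := by
      show B₀.map H.subtype = _
      rw [hB₀, Subgroup.map_sup, MonoidHom.map_zpowers, MonoidHom.map_zpowers, hmapP, hPg]
      congr 2
      show (v : G) * (a * g * a⁻¹) * (v : G)⁻¹ = _
      group
    have hAB : A ≤ B := by
      rw [hAP, hmapP]
      refine sup_le (hBeq.ge.trans' le_sup_left) (zpowers_le.2 ?_)
      have h1 : ((v : G) * a) * g * ((v : G) * a)⁻¹ ∈ B :=
        hBeq.ge (mem_sup_right ⟨g, hgP, rfl⟩)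
      have h2 := mul_mem (mul_mem (inv_mem (hVleB hv)) h1) (hVleB hv)
      convert h2 using 1
      group
    have hBH : B ≤ H := map_subtype_le _
    have hBs : Group.IsSolvable B := by
      haveI := hVs
      haveI := hAs
      haveI : Group.IsSolvable (A.subgroupOf H) :=
        Group.isSolvable_of_isSolvable_injective (f := (subgroupOfEquivOfLe hAH).toMonoidHom)
          (subgroupOfEquivOfLe hAH).injective
      haveI : Group.IsSolvable (V.subgroupOf H) :=
        Group.isSolvable_of_isSolvable_injective (f := (subgroupOfEquivOfLe hVH).toMonoidHom)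
          (subgroupOfEquivOfLe hVH).injective
      haveI : (V.subgroupOf H).Normal := (normal_subgroupOf_iff_le_normalizer hVH).2 hHV
      have hq : Group.IsSolvable (↥H ⧸ V.subgroupOf H) := by
        refine Group.isSolvable_of_surjective
          (f := (QuotientGroup.mk' (V.subgroupOf H)).comp (A.subgroupOf H).subtype) fun x => ?_
        obtain ⟨x, rfl⟩ := QuotientGroup.mk'_surjective _ x
        have hx : x ∈ A.subgroupOf H ⊔ V.subgroupOf H := by
          rw [← subgroupOf_sup hAH hVH, subgroupOf_self]; exact mem_top _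
        rw [← SetLike.mem_coe, mul_normal (A.subgroupOf H) (V.subgroupOf H), Set.mem_mul] at hx
        obtain ⟨y, hy, z, hz, rfl⟩ := hx
        refine ⟨⟨y, hy⟩, ?_⟩
        show QuotientGroup.mk' _ y = QuotientGroup.mk' _ (y * z)
        rw [map_mul, show QuotientGroup.mk' (V.subgroupOf H) z = 1 from (QuotientGroup.eq_one_iff z).2 hz,
          mul_one]
      haveI : Group.IsSolvable H := Group.isSolvable_of_ker_le_range (V.subgroupOf H).subtype
        (QuotientGroup.mk' (V.subgroupOf H)) (by rw [QuotientGroup.ker_mk', range_subtype])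
      exact Group.isSolvable_of_isSolvable_injective (inclusion_injective hBH)
    have hbB : (v : G) * a ∈ B := mul_mem (hVleB hv) (hAB ha)
    exact hVA (hVleB.trans (hmax B hAB hBs ⟨_, hbB, hBeq⟩).le)
  -- the normaliser of `R'` is `A'`
  have hA'R : A' ≤ normalizer (R' : Set (↥H ⧸ Φ.subgroupOf H)) := by
    rintro _ ⟨x, hx, rfl⟩
    refine le_normalizer_map π (mem_map_of_mem π (mem_normalizer_iff.2 fun r => ?_))
    simpa [mem_subgroupOf] using mem_normalizer_iff.1 (hAR hx) (r : G)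
  have hAV' : A' ⊓ V' = ⊥ := by
    have h1 := hmeet 1 (one_mem V)
    simp only [map_one, one_mul, inv_one, mul_one] at h1
    rwa [← hA'gen] at h1
  haveI hA's : Group.IsSolvable A' := by
    haveI := hAs
    haveI : Group.IsSolvable (A.subgroupOf H) :=
      Group.isSolvable_of_isSolvable_injective (f := (subgroupOfEquivOfLe hAH).toMonoidHom)
        (subgroupOfEquivOfLe hAH).injective
    exact Group.isSolvable_of_surjective (f := π.subgroupMap (A.subgroupOf H))
      (π.subgroupMap_surjective _)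
  have hR'A : R' ≤ A' := map_mono fun x hx => hRA hx
  have hR's : Group.IsSolvable R' := Group.isSolvable_of_isSolvable_injective (inclusion_injective hR'A)
  set g' := π ⟨g, hAH hgA⟩
  set a' := π ⟨a, hAH ha⟩
  set h' := a' * g' * a'⁻¹
  refine covering_false (p := p) (q := q) ?_ A' V' hV'bot hsup' hA's hexp hmin'
    (g := g') (a := a') (mem_map_of_mem π hgA) ?_ (mem_map_of_mem π ha) hA'gen ?_ ?_
  · by_contra h
    have h4 : p = 4 := by omega
    subst h4
    exact absurd (Fact.out : Nat.Prime 4) (by norm_num)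
  · rw [← map_pow, show ((⟨g, hAH hgA⟩ : H) ^ p) = 1 from Subtype.ext (by
      show g ^ p = 1
      rw [← hgo, pow_orderOf_eq_one]), map_one]
  · by_contra h
    push Not at h
    refine hV'bot (eq_bot_iff.2 (hfix ▸ le_inf le_rfl ?_))
    exact le_centralizer_iff.1 (hR'A.trans h)
  intro w hw
  obtain ⟨v, hv, rfl⟩ := hw
  set B' := zpowers g' ⊔ zpowers (π v * h' * (π v)⁻¹) with hB'
  have hgB : g' ∈ B' := mem_sup_left (mem_zpowers _)
  have hhB : π v * h' * (π v)⁻¹ ∈ B' := mem_sup_right (mem_zpowers _)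
  have hBV : B' ⊔ V' = ⊤ := by
    refine top_le_iff.1 (hsup'.ge.trans (sup_le ?_ le_sup_right))
    rw [hA'gen]
    refine sup_le (zpowers_le.2 (mem_sup_left hgB)) (zpowers_le.2 ?_)
    have h1 : π v ∈ B' ⊔ V' := mem_sup_right ⟨v, hv, rfl⟩
    have h2 := mul_mem (mul_mem (inv_mem h1) (mem_sup_left hhB)) h1
    convert h2 using 1
    group
  have hBm : B' ⊓ V' = ⊥ := hmeet v hv
  set RV := R' ⊔ V' with hRV'
  have hRVn : RV.Normal := by
    refine normalizer_eq_top_iff.1 (top_le_iff.1 (hsup'.ge.trans (sup_le ?_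
      (le_sup_right.trans le_normalizer))))
    intro x hx
    refine mem_normalizer_iff_map_conj_eq.2 ?_
    rw [Subgroup.map_sup, mem_normalizer_iff_map_conj_eq.1 (hA'R hx),
      mem_normalizer_iff_map_conj_eq.1 (by rw [normalizer_eq_top]; exact mem_top _ :
        x ∈ normalizer (V' : Set (↥H ⧸ Φ.subgroupOf H)))]
  set T := B' ⊓ RV
  have hTV : T ⊔ V' = RV := by
    refine le_antisymm (sup_le inf_le_right le_sup_right) fun x hx => ?_
    have hx' : x ∈ B' ⊔ V' := hBV ▸ mem_top _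
    rw [← SetLike.mem_coe, mul_normal B' V', Set.mem_mul] at hx'
    obtain ⟨b, hb, u, hu, rfl⟩ := hx'
    exact mul_mem (mem_sup_left ⟨hb, by
      simpa using mul_mem hx (inv_mem (mem_sup_right hu : u ∈ RV))⟩) (mem_sup_right hu)
  have hcard : Nat.card T = Nat.card R' := by
    have h1 := Solvable.card_sup_of_disjoint (A := T) (K := V')
      (by rw [normalizer_eq_top]; exact le_top)
      (eq_bot_iff.2 ((inf_le_inf_right _ inf_le_left).trans hBm.le))
    have h2 := Solvable.card_sup_of_disjoint (A := R') (K := V') hR'V (inf_eq_bot_of_coprime hR'c)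
    rw [hTV, h2] at h1
    exact (Nat.eq_of_mul_eq_mul_right Nat.card_pos h1).symm
  obtain ⟨k, hk, hkT⟩ := SZ.conj_rel hR'V hR'c (Or.inl hR's) (B := T) inf_le_right hcard
  -- `B'` is carried into `A'` by `k`
  have hkB : ∀ b ∈ B', k⁻¹ * b * k ∈ A' := by
    intro b hb
    have hbT : MulAut.conj b • T = T := by
      rw [Subgroup.smul_inf, SZ.conj_smul_eq_iff_mem_normalizer.2 (le_normalizer hb),
        SZ.conj_smul_eq_iff_mem_normalizer.2 (by rw [normalizer_eq_top]; exact mem_top _)]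
    have hn : k⁻¹ * b * k ∈ normalizer (R' : Set (↥H ⧸ Φ.subgroupOf H)) := by
      refine SZ.conj_smul_eq_iff_mem_normalizer.1 ?_
      rw [map_mul, map_mul, mul_smul, mul_smul, hkT, hbT, ← hkT, ← mul_smul, ← map_mul,
        inv_mul_cancel, map_one, one_smul]
    have hx : k⁻¹ * b * k ∈ A' ⊔ V' := hsup' ▸ mem_top _
    rw [← SetLike.mem_coe, mul_normal A' V', Set.mem_mul] at hx
    obtain ⟨y, hy, u, hu, he⟩ := hx
    rw [← he] at hn ⊢
    have hun : u ∈ normalizer (R' : Set (↥H ⧸ Φ.subgroupOf H)) := by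
      simpa using mul_mem (inv_mem (hA'R hy)) hn
    have h1 : u ∈ V' ⊓ centralizer (R' : Set (↥H ⧸ Φ.subgroupOf H)) :=
      ⟨hu, CoprimeAct.mem_centralizer_of_normalizes hR'V hR'c hu hun⟩
    rw [hfix, mem_bot] at h1
    rw [h1, mul_one]
    exact hy
  have hcommute : ∀ u ∈ V', ∀ x ∈ A', u⁻¹ * x * u ∈ A' → Commute u x := by
    intro u hu x hx h
    have h1 : x⁻¹ * (u⁻¹ * x * u) ∈ A' ⊓ V' := mem_inf.2 ⟨mul_mem (inv_mem hx) h, by
      rw [show x⁻¹ * (u⁻¹ * x * u) = (x⁻¹ * u⁻¹ * x⁻¹⁻¹) * u by group]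
      exact mul_mem ((inferInstance : V'.Normal).conj_mem _ (inv_mem hu) _) hu⟩
    rw [hAV', mem_bot, inv_mul_eq_one] at h1
    calc u * x = u * (u⁻¹ * x * u) := by rw [← h1]
      _ = x * u := by group
  have hv' : π v ∈ V' := ⟨v, hv, rfl⟩
  have hu : (π v)⁻¹ * k ∈ V' := mul_mem (inv_mem hv') hk
  have hgA' : g' ∈ A' := mem_map_of_mem π hgA
  have hhA' : h' ∈ A' := by
    rw [hA'gen]
    exact mem_sup_right (mem_zpowers _)
  refine ⟨k, hk, k⁻¹ * π v, mul_mem (inv_mem hk) hv', hcommute k hk g' hgA' (hkB g' hgB), ?_,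
    (mul_inv_cancel_left _ _).symm⟩
  have h1 := hcommute _ hu h' hhA' (by
    have := hkB _ hhB
    convert this using 1
    group)
  have h2 := h1.inv_left
  rwa [mul_inv_rev, inv_inv] at h2

set_option maxHeartbeats 1000000 in
/-- Flavell's lemma. -/
theorem fitting_sup_nilpotent {p : ℕ} [Fact p.Prime] (hp : 3 < p) (P : Subgroup G)
    (hP : Nat.card P = p) (A : Subgroup G)
    (hA : Group.IsSolvable A ∧ ∃ a ∈ A, A = P ⊔ P.map (MulAut.conj a).toMonoidHom)
    (hmax : ∀ B : Subgroup G, A ≤ B → Group.IsSolvable B →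
      (∃ b ∈ B, B = P ⊔ P.map (MulAut.conj b).toMonoidHom) → B = A)
    (V : Subgroup G) (hV : Group.IsNilpotent V) (hAV : A ≤ normalizer (V : Set G)) :
    Group.IsNilpotent ↥((Cfsg.fittingSubgroup A).map A.subtype ⊔ V) := by
  obtain ⟨hAs, a, ha, hAP⟩ := hA
  haveI : ∀ q : Nat.Primes, Fact (q : ℕ).Prime := fun q => ⟨q.2⟩
  set W := (Cfsg.fittingSubgroup A).map A.subtype ⊔ V
  let F : Nat.Primes → Subgroup G := fun q => (Cfsg.pCore (q : ℕ) A).map A.subtype
  choose Vp hVle hVp hVmem using fun q : Nat.Primes => CfsgLib.FGSA.exists_pPart hV (q : ℕ)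
  let T : Nat.Primes → Subgroup G := fun q => F q ⊔ Vp q
  have hFA : ∀ q, F q ≤ A := fun q => map_subtype_le _
  have hFn : ∀ q, A ≤ normalizer (F q : Set G) := fun q => by
    refine le_trans ?_ (le_normalizer_map A.subtype)
    rw [normalizer_eq_top, ← MonoidHom.range_eq_map, range_subtype]
  have hFp : ∀ q : Nat.Primes, IsPGroup (q : ℕ) (F q) := fun q => (Solvable.isPGroup_pCore _).map _
  have hVn : ∀ q, A ≤ normalizer (Vp q : Set G) := by
    intro q
    have hc : ∀ x ∈ A, ∀ v ∈ Vp q, x * v * x⁻¹ ∈ Vp q := fun x hx v hv => by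
      refine hVmem q _ ((mem_normalizer_iff.1 (hAV hx) v).1 (hVle q hv)) ?_
      rw [Invol.orderOf_conj_eq]
      obtain ⟨n, hn⟩ := IsPGroup.iff_orderOf.1 (hVp q) ⟨v, hv⟩
      exact ⟨n, by rwa [Subgroup.orderOf_mk] at hn⟩
    intro x hx
    refine mem_normalizer_iff.2 fun v => ⟨hc x hx v, fun h => ?_⟩
    have := hc x⁻¹ (inv_mem hx) _ h
    simpa [mul_assoc] using this
  have hcop : ∀ {q r : Nat.Primes}, q ≠ r → ∀ {X Y : Subgroup G}, IsPGroup (q : ℕ) X →
      IsPGroup (r : ℕ) Y → (Nat.card X).Coprime (Nat.card Y) := by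
    intro q r hqr X Y hX hY
    obtain ⟨i, hi⟩ := IsPGroup.iff_card.1 hX
    obtain ⟨j, hj⟩ := IsPGroup.iff_card.1 hY
    rw [hi, hj]
    exact ((Nat.coprime_primes q.2 r.2).2 fun h => hqr (Subtype.ext h)).pow i j
  have hFV : ∀ {q r : Nat.Primes}, q ≠ r → ⁅Vp r, F q⁆ = ⊥ := fun {q r} hqr =>
    commute_qGroup hp P hP A hAs ha hAP hmax (F q) (hFA q) (hFn q) (q := (r : ℕ)) (Vp r) (hVn r)
      (hVp r) (hcop hqr (hFp q) (hVp r))
  have hTT : ∀ {q r : Nat.Primes}, q ≠ r → T r ≤ centralizer (T q : Set G) := by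
    intro q r hqr
    refine sup_le (le_centralizer_iff.1 (sup_le ?_ ?_)) (le_centralizer_iff.1 (sup_le ?_ ?_))
    · intro x hx
      refine mem_centralizer_iff.2 fun y hy => ?_
      obtain ⟨x', hx', rfl⟩ := hx
      obtain ⟨y', hy', rfl⟩ := hy
      exact congrArg A.subtype (commute_of_normal_of_disjoint (Cfsg.pCore (r : ℕ) A)
        (Cfsg.pCore (q : ℕ) A) inferInstance inferInstance
        (IsPGroup.disjoint_of_ne _ _ (fun h => hqr (Subtype.ext h).symm) _ _
          (Solvable.isPGroup_pCore _) (Solvable.isPGroup_pCore _)) y' x' hy' hx').eq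
    · exact commutator_eq_bot_iff_le_centralizer.1 (hFV hqr.symm)
    · exact le_centralizer_iff.1 (commutator_eq_bot_iff_le_centralizer.1 (hFV hqr))
    · intro x hx
      refine mem_centralizer_iff.2 fun y hy => ?_
      have hnil := hV
      obtain ⟨i, hi⟩ := IsPGroup.iff_orderOf.1 (hVp q) ⟨x, hx⟩
      obtain ⟨j, hj⟩ := IsPGroup.iff_orderOf.1 (hVp r) ⟨y, hy⟩
      rw [Subgroup.orderOf_mk] at hi hj
      have hco : (orderOf (⟨y, hVle r hy⟩ : V)).Coprime (orderOf (⟨x, hVle q hx⟩ : V)) := by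
        rw [Subgroup.orderOf_mk, Subgroup.orderOf_mk, hi, hj]
        exact ((Nat.coprime_primes r.2 q.2).2 fun h => hqr (Subtype.ext h).symm).pow j i
      haveI := hnil
      exact congrArg V.subtype (CfsgLib.FGSA.commute_of_coprime_orderOf _ _ hco).eq
  have hWT : W ≤ ⨆ q, T q := by
    refine sup_le ?_ ?_
    · rw [Solvable.fittingSubgroup_eq_iSup_pCore, Subgroup.map_iSup]
      exact iSup_mono fun q => le_sup_left
    · haveI := hV
      have htop : (⊤ : Subgroup V) ≤ ⨆ q : Nat.Primes, Cfsg.pCore (q : ℕ) V :=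
        Solvable.le_iSup_pCore_of_isNilpotent inferInstance
          (Group.nilpotent_of_mulEquiv Subgroup.topEquiv.symm)
      intro v hv
      have h1 := mem_map_of_mem V.subtype (htop (mem_top (⟨v, hv⟩ : V)))
      rw [Subgroup.map_iSup] at h1
      refine (iSup_mono fun q => ?_ : (⨆ q : Nat.Primes, (Cfsg.pCore (q : ℕ) V).map V.subtype) ≤ _) h1
      rintro _ ⟨w, hw, rfl⟩
      obtain ⟨n, hn⟩ := IsPGroup.iff_orderOf.1 (Solvable.isPGroup_pCore (q : ℕ)) ⟨w, hw⟩
      rw [Subgroup.orderOf_mk] at hn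
      exact mem_sup_right (hVmem q _ w.2 ⟨n, by rw [coe_subtype, Subgroup.orderOf_coe, hn]⟩)
  have hTW : ∀ q, T q ≤ W := fun q => sup_le
    (le_sup_of_le_left (map_mono (Solvable.pCore_le_fittingSubgroup _))) (le_sup_of_le_right (hVle q))
  have hTn : ∀ q, W ≤ normalizer (T q : Set G) := fun q => hWT.trans (iSup_le fun r => by
    rcases eq_or_ne q r with rfl | hqr
    · exact le_normalizer
    · exact (hTT hqr).trans (centralizer_le_normalizer _))
  have hTp : ∀ q : Nat.Primes, IsPGroup (q : ℕ) (T q) := fun q =>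
    (hFp q).to_sup_of_normal_right' (hVp q) ((hFA q).trans (hVn q))
  have hle : (⊤ : Subgroup W) ≤ ⨆ q : Nat.Primes, Cfsg.pCore (q : ℕ) W := by
    refine (map_le_map_iff_of_injective W.subtype_injective).1 ?_
    rw [← MonoidHom.range_eq_map, range_subtype, Subgroup.map_iSup]
    refine hWT.trans (iSup_mono fun q => ?_)
    rw [← map_subgroupOf_eq_of_le (hTW q)]
    refine map_mono (Solvable.le_pCore _ ((normal_subgroupOf_iff_le_normalizer (hTW q)).2 (hTn q)) ?_)
    exact (hTp q).comap_of_injective W.subtype W.subtype_injective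
  have := CfsgLib.Solvable.isNilpotent_iSup_pCore (G := W)
  rw [top_le_iff.1 hle] at this
  exact Group.nilpotent_of_mulEquiv Subgroup.topEquiv

end CfsgLib.Flavell
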